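import Groth.Prelude.Def_KRR
import Groth.Agent.Lambda.Series
import Mathlib.RingTheory.Nilpotent.Basic
import Mathlib.RingTheory.Polynomial.UniqueFactorization

/-!
# A quotient of a trivial bundle is unipotent

If `e + q` is a natural number `N` in a ring with λ-operations, `λ_t e`, `λ_t q` are polynomials of degree `r`,
`N - r` with invertible leading coefficient and constant term one, and their product is `(1 + t)^N`; over a
domain this forces `λ_t e = (1 + t)^r`, so `λ^i e - (r choose i)` is nilpotent.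
-/

set_option autoImplicit false
set_option linter.style.haveILetI false

universe u

open PowerSeries

namespace Groth.Agent.KRRLib

variable {K : Type u} [CommRing K] [LambdaRing.LambdaOps K]

theorem lam_sub_choose_isNilpotent (h1 : ∀ i, 2 ≤ i → LambdaRing.LambdaOps.lam i (1 : K) = 0)
    (e q : K) (N r : ℕ) (hrN : r ≤ N) (hsum : e + q = N)
    (he : ∀ i, r < i → LambdaRing.LambdaOps.lam i e = 0) (heu : IsUnit (LambdaRing.LambdaOps.lam r e))
    (hq : ∀ i, N - r < i → LambdaRing.LambdaOps.lam i q = 0)
    (hqu : IsUnit (LambdaRing.LambdaOps.lam (N - r) q)) (i : ℕ) :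
    IsNilpotent (LambdaRing.LambdaOps.lam i e - (Nat.choose r i : K)) := by
  rw [nilpotent_iff_mem_prime]
  intro p hp
  rw [← Ideal.Quotient.eq_zero_iff_mem, map_sub, map_natCast, sub_eq_zero]
  let π : K →+* K ⧸ p := Ideal.Quotient.mk p
  have hdeg : ∀ (x : K) (d : ℕ), (∀ i, d < i → LambdaRing.LambdaOps.lam i x = 0) →
      IsUnit (LambdaRing.LambdaOps.lam d x) →
      ∃ A : Polynomial (K ⧸ p), (A : PowerSeries (K ⧸ p)) = PowerSeries.map π (LambdaRing.lamSeries x) ∧
        A.natDegree = d ∧ A.coeff 0 = 1 := by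
    intro x d hx hu
    refine ⟨PowerSeries.trunc (d + 1) (PowerSeries.map π (LambdaRing.lamSeries x)), ?_, ?_, ?_⟩
    · ext k
      rw [Polynomial.coeff_coe, PowerSeries.coeff_trunc]
      split
      · rfl
      · rw [coeff_map, Lambda.coeff_lamSeries, hx k (by omega), map_zero]
    · refine le_antisymm (Nat.lt_succ_iff.1 (PowerSeries.natDegree_trunc_lt _ d)) (Polynomial.le_natDegree_of_ne_zero ?_)
      rw [PowerSeries.coeff_trunc, if_pos (Nat.lt_succ_self d), coeff_map, Lambda.coeff_lamSeries]
      exact (hu.map π).ne_zero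
    · rw [PowerSeries.coeff_trunc, if_pos (Nat.succ_pos d), coeff_map, Lambda.coeff_lamSeries,
        LambdaRing.LambdaOps.lam_zero, map_one]
  obtain ⟨A, hA, hAd, hA0⟩ := hdeg e r he heu
  obtain ⟨B, hB, hBd, -⟩ := hdeg q (N - r) hq hqu
  have hprod : A * B = (Polynomial.X + 1) ^ N := by
    apply Polynomial.coe_injective
    rw [Polynomial.coe_mul, hA, hB, ← map_mul, ← Lambda.lamSeries_add, hsum,
      Lambda.lamSeries_natCast h1]
    simp [Polynomial.coe_pow, Polynomial.coe_add, add_comm]
  have hprime : Prime (Polynomial.X + 1 : Polynomial (K ⧸ p)) := by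
    have := Polynomial.prime_X_sub_C (-1 : K ⧸ p)
    rwa [map_neg, map_one, sub_neg_eq_add] at this
  obtain ⟨j, hj, hass⟩ := (dvd_prime_pow hprime N).1 ⟨B, hprod.symm⟩
  obtain ⟨c, hc⟩ := hass.symm
  obtain ⟨a, -, hac⟩ := Polynomial.isUnit_iff.1 c.isUnit
  have hcoef : A = Polynomial.C a * (Polynomial.X + 1) ^ j := by rw [hac, mul_comm]; exact hc.symm
  have ha0 : a = 1 := by
    have := congrArg (fun f => Polynomial.coeff f 0) hcoef
    simp only [Polynomial.coeff_C_mul, Polynomial.coeff_X_add_one_pow, Nat.choose_zero_right,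
      Nat.cast_one, mul_one] at this
    exact this.symm.trans hA0
  rw [ha0, map_one, one_mul] at hcoef
  have hjr : j = r := by
    rw [← hAd, hcoef, Polynomial.natDegree_pow, show (Polynomial.X + 1 : Polynomial (K ⧸ p)) =
      Polynomial.X + Polynomial.C 1 by rw [map_one], Polynomial.natDegree_X_add_C, mul_one]
  subst hjr
  have h := congrArg (fun f => Polynomial.coeff f i) hcoef
  simp only [Polynomial.coeff_X_add_one_pow] at h
  rw [← h, ← Polynomial.coeff_coe, hA, coeff_map, Lambda.coeff_lamSeries]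

end Groth.Agent.KRRLib
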