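import Groth.Agent.KRRLib.Model
import Groth.Agent.KRRLib.LamNil
import Groth.Agent.AmpleX.Generated
import Groth.Agent.AmpleX.Separated
import Groth.Agent.AmpleVan.FinGen
import Groth.Agent.InvX.GenEpi
import Groth.Agent.KFlatLib.Perfect.Top
import Groth.Agent.ConsPropLib.FibreLocFreeRank
import Groth.Agent.Lib.InvEnd

/-!
# The effect of an ample invertible module on `K(X)`

Twisted bundles are quotients of trivial bundles, so augmentation zero elements are nilpotent.
-/

set_option autoImplicit false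
set_option linter.style.haveILetI false
set_option linter.unusedSectionVars false
set_option backward.isDefEq.respectTransparency false
set_option backward.isDefEq.respectTransparency.types false

universe u v w

open CategoryTheory CategoryTheory.Limits AlgebraicGeometry TopologicalSpace ZeroObject

noncomputable section

namespace Groth.Agent.KRRLib

open Groth.Agent

variable {X : Scheme.{u}}

theorem isZero_of_rank_zero {M : X.Modules} (hM : FlatMod.IsFinLocFreeOfRank 0 M) : IsZero M := by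
  obtain ⟨hM', hr⟩ := ConsPropLib.isFinLocFreeOfRank_iff.1 hM
  refine KFlatLib.isZero_of_stalk M fun x => ?_
  haveI := QCoh.free_stalk_of_isFinLocFree hM' x
  haveI : Module.Finite (X.presheaf.stalk x) (M.presheaf.stalk x) :=
    QCoh.finite_stalk_of_isFT (QCoh.isQCoh_of_isFinLocFree hM')
      (QCoh.isFT_of_isFP (QCoh.isFP_of_isFinLocFree hM')) x
  have hcard := (Module.finrank_eq_card_chooseBasisIndex (X.presheaf.stalk x) (M.presheaf.stalk x)).symm.trans (hr x)
  haveI := Fintype.card_eq_zero_iff.1 hcard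
  haveI : Subsingleton (M.presheaf.stalk x) :=
    (Module.Free.chooseBasis (X.presheaf.stalk x) (M.presheaf.stalk x)).repr.toEquiv.subsingleton
  exact @ModuleCat.isZero_of_subsingleton _ _ ((DerSch.stalkFunctor X x).obj M) this

variable {K : Type v} [CommRing K] [LambdaRing.LambdaOps K] {P : LambdaRing.PosStructure K}
  {φ : SGA6.Kvb X →+ K}

theorem lam_one_eq_zero (P : LambdaRing.PosStructure K) (i : ℕ) (hi : 2 ≤ i) :
    LambdaRing.LambdaOps.lam i (1 : K) = 0 :=
  P.lam_eq_zero 1 (by simpa using P.natCast_mem 1 one_pos) i (by rw [map_one]; exact_mod_cast hi)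

/-- The class of a free module. -/
theorem phi_freeMod (hK : KRR.IsModel X K P φ) : ∀ n : ℕ, φ (KRR.cl X (FlatMod.freeMod X n)) = n
  | 0 => by rw [cl_isZero KFlatLib.isZero_freeMod_zero, map_zero, Nat.cast_zero]
  | n + 1 => by
    rw [← phi_iso (KFlatLib.biprodFreeIso n 1)
        (flf_biprod (KFlatLib.isFinLocFree_freeMod n) (KFlatLib.isFinLocFree_freeMod 1)),
      phi_biprod (KFlatLib.isFinLocFree_freeMod n) (KFlatLib.isFinLocFree_freeMod 1),
      phi_freeMod hK n, Nat.cast_succ,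
      phi_iso (coproductUniqueIso fun _ : Fin 1 => Coh.structureModule X) (KFlatLib.isFinLocFree_freeMod 1),
      hK.map_one]

theorem flf_of_invertible {L : X.Modules} (hL : PicF.IsInvertible L) : FlatMod.IsFinLocFree L :=
  flf_of_rank (InvEnd.isFinLocFreeOfRank_one hL)

theorem flf_tensorPow {L : X.Modules} (hL : FlatMod.IsFinLocFree L) :
    ∀ n, FlatMod.IsFinLocFree (CohB1.tensorPow L n)
  | 0 => flf_structure X
  | n + 1 => flf_tensor (flf_tensorPow hL n) hL

theorem phi_tensorPow (hK : KRR.IsModel X K P φ) {L : X.Modules} (hL : FlatMod.IsFinLocFree L) :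
    ∀ n, φ (KRR.cl X (CohB1.tensorPow L n)) = φ (KRR.cl X L) ^ n
  | 0 => by rw [pow_zero]; exact hK.map_one
  | n + 1 => by
    rw [pow_succ, ← phi_tensorPow hK hL n, hK.map_mul _ _ (flf_tensorPow hL n) hL]
    rfl

theorem lam_eq_zero_of_rank (hK : KRR.IsModel X K P φ) {n : ℕ} {E : X.Modules}
    (hE : FlatMod.IsFinLocFreeOfRank n E) {i : ℕ} (hi : n < i) :
    LambdaRing.LambdaOps.lam i (φ (KRR.cl X E)) = 0 := by
  rcases Nat.eq_zero_or_pos n with rfl | hn
  · rw [cl_isZero (isZero_of_rank_zero hE), map_zero, Lambda.lam_zero_right (by omega)]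
  · exact P.lam_eq_zero _ (mem_pos_of_rank hK hn hE) i (by rw [hK.aug_cl n E hE]; exact_mod_cast hi)

theorem isUnit_lam_of_rank (hK : KRR.IsModel X K P φ) {n : ℕ} {E : X.Modules}
    (hE : FlatMod.IsFinLocFreeOfRank n E) :
    IsUnit (LambdaRing.LambdaOps.lam n (φ (KRR.cl X E))) := by
  rcases Nat.eq_zero_or_pos n with rfl | hn
  · rw [LambdaRing.LambdaOps.lam_zero]; exact isUnit_one
  · have := P.isUnit_lam _ (mem_pos_of_rank hK hn hE)
    rwa [hK.aug_cl n E hE, Int.toNat_natCast] at this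

/-- Large twists of a bundle are quotients of trivial bundles by bundles. -/
theorem exists_quotient_free {L : X.Modules} (hL : CohB1.IsAmple L) {G : X.Modules}
    (hG : FlatMod.IsFinLocFree G) :
    ∃ n₀ : ℕ, ∀ n, n₀ ≤ n → ∃ (N : ℕ) (Q : X.Modules), FlatMod.IsFinLocFree Q ∧
      KRR.cl X (FlatMod.freeMod X N) =
        KRR.cl X Q + KRR.cl X ((DCoh.tensorBi.obj G).obj (CohB1.tensorPow L n)) := by
  haveI : CompactSpace X := hL.2.1
  haveI : X.IsSeparated := AmpleX.isSeparated_of_isAmple hL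
  obtain ⟨n₀, hn₀⟩ := AmpleX.eventually_generated hL (QCoh.isQCoh_of_isFinLocFree hG)
    (QCoh.isFT_of_isFP (QCoh.isFP_of_isFinLocFree hG))
  refine ⟨n₀, fun n hn => ?_⟩
  obtain ⟨G', e, ι, s, hs⟩ := hn₀ n hn
  have hT := flf_tensor hG (flf_tensorPow (flf_of_invertible hL.1) n)
  have hG' : FlatMod.IsFinLocFree G' := flf_iso e.symm hT
  obtain ⟨N, j, hj⟩ := AmpleVan.exists_fin_generatedBy
    ⟨QCoh.isQCoh_of_isFinLocFree hG', QCoh.isFT_of_isFP (QCoh.isFP_of_isFinLocFree hG')⟩ s hs
  obtain ⟨p, hp⟩ := InvX.exists_epi_freeMod hj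
  haveI := hp
  have hN : FlatMod.IsFinLocFree (FlatMod.freeMod X N) := KFlatLib.isFinLocFree_freeMod N
  have hQ := KFlatLib.isFinLocFree_kernel p hN hG'
  refine ⟨N, kernel p, hQ, ?_⟩
  rw [cl_ses (KZ.kerSeq_shortExact p) hQ hN hG', cl_iso e hG']
  rfl

variable [ConnectedSpace X]

/-- The classes `λ^i` of a large twist of a bundle are binomial coefficients up to nilpotents. -/
theorem eventually_lam_twist_nilpotent (hK : KRR.IsModel X K P φ) {L : X.Modules} (hL : CohB1.IsAmple L)
    {r : ℕ} {E : X.Modules} (hE : FlatMod.IsFinLocFreeOfRank r E) :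
    ∃ n₀ : ℕ, ∀ n, n₀ ≤ n → ∀ i : ℕ, IsNilpotent
      (LambdaRing.LambdaOps.lam i (φ (KRR.cl X E) * φ (KRR.cl X L) ^ n) - (Nat.choose r i : K)) := by
  have hLf := flf_of_invertible hL.1
  have hE' := flf_of_rank hE
  obtain ⟨n₀, hn₀⟩ := exists_quotient_free hL hE'
  refine ⟨n₀, fun n hn i => ?_⟩
  obtain ⟨N, Q, hQ, hNQ⟩ := hn₀ n hn
  let T := (DCoh.tensorBi.obj E).obj (CohB1.tensorPow L n)
  have hT : FlatMod.IsFinLocFree T := flf_tensor hE' (flf_tensorPow hLf n)
  have hTe : φ (KRR.cl X E) * φ (KRR.cl X L) ^ n = φ (KRR.cl X T) := by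
    rw [← phi_tensorPow hK hLf n, hK.map_mul E _ hE' (flf_tensorPow hLf n)]
  have hsum : φ (KRR.cl X T) + φ (KRR.cl X Q) = (N : K) := by
    rw [← phi_freeMod hK N, hNQ, map_add, add_comm]
  obtain ⟨m, hm⟩ := exists_rank hQ
  obtain ⟨t, ht⟩ := exists_rank hT
  have haug : (t : ℤ) + m = N := by
    have h := congrArg P.aug hsum
    rwa [map_add, hK.aug_cl t T ht, hK.aug_cl m Q hm, map_natCast] at h
  have htr : t = r := by
    have h : P.aug (φ (KRR.cl X T)) = P.aug (φ (KRR.cl X E) * φ (KRR.cl X L) ^ n) := by rw [hTe]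
    rw [map_mul, map_pow, hK.aug_cl 1 L (InvEnd.isFinLocFreeOfRank_one hL.1), hK.aug_cl r E hE,
      hK.aug_cl t T ht] at h
    simpa using h
  subst htr
  have hm' : N - t = m := by omega
  rw [hTe]
  exact lam_sub_choose_isNilpotent (lam_one_eq_zero P) _ _ N t (by omega) hsum
    (fun k hk => lam_eq_zero_of_rank hK ht hk) (isUnit_lam_of_rank hK ht)
    (fun k hk => lam_eq_zero_of_rank hK hm (hm' ▸ hk)) (hm'.symm ▸ isUnit_lam_of_rank hK hm) i

theorem isUnit_line (hK : KRR.IsModel X K P φ) {L : X.Modules} (hL : PicF.IsInvertible L) :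
    IsUnit (φ (KRR.cl X L)) := by
  simpa [LambdaRing.LambdaOps.lam_one] using isUnit_lam_of_rank hK (InvEnd.isFinLocFreeOfRank_one hL)

/-- The class of an ample invertible module is unipotent. -/
theorem ample_sub_one_isNilpotent (hK : KRR.IsModel X K P φ) {L : X.Modules} (hL : CohB1.IsAmple L) :
    IsNilpotent (φ (KRR.cl X L) - 1) := by
  obtain ⟨n, hn⟩ := eventually_lam_twist_nilpotent hK hL (r := 1) (E := Coh.structureModule X)
    (InvEnd.isFinLocFreeOfRank_one InvX.isInvertible_structureModule)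
  have h1 := hn n le_rfl 1
  have h2 := hn (n + 1) (Nat.le_succ n) 1
  simp only [LambdaRing.LambdaOps.lam_one, hK.map_one, one_mul, Nat.choose_one_right, Nat.cast_one] at h1 h2
  have h3 : IsNilpotent (φ (KRR.cl X L) ^ n * (φ (KRR.cl X L) - 1)) := by
    rw [show φ (KRR.cl X L) ^ n * (φ (KRR.cl X L) - 1) =
      (φ (KRR.cl X L) ^ (n + 1) - 1) - (φ (KRR.cl X L) ^ n - 1) by ring]
    exact (Commute.all _ _).isNilpotent_sub h2 h1
  exact (((isUnit_line hK hL.1).pow n).isNilpotent_unit_mul_of_commute_iff (Commute.all _ _)).1 h3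

/-- The classes of a bundle are its rank up to nilpotents. -/
theorem cl_sub_rank_isNilpotent (hK : KRR.IsModel X K P φ) {L : X.Modules} (hL : CohB1.IsAmple L)
    {r : ℕ} {E : X.Modules} (hE : FlatMod.IsFinLocFreeOfRank r E) :
    IsNilpotent (φ (KRR.cl X E) - (r : K)) := by
  obtain ⟨n, hn⟩ := eventually_lam_twist_nilpotent hK hL hE
  have h1 := hn n le_rfl 1
  simp only [LambdaRing.LambdaOps.lam_one, Nat.choose_one_right] at h1
  set u := φ (KRR.cl X L)
  have hu : IsNilpotent (u ^ n - 1) := by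
    obtain ⟨c, hc⟩ := sub_one_dvd_pow_sub_one u n
    rw [hc]
    exact (Commute.all _ _).isNilpotent_mul_right (ample_sub_one_isNilpotent hK hL)
  rw [show φ (KRR.cl X E) - (r : K) =
    (φ (KRR.cl X E) * u ^ n - r) - φ (KRR.cl X E) * (u ^ n - 1) by ring]
  exact (Commute.all _ _).isNilpotent_sub h1 ((Commute.all _ _).isNilpotent_mul_left hu)

/-- Elements of augmentation zero are nilpotent. -/
theorem isNilpotent_of_aug_eq_zero (hK : KRR.IsModel X K P φ) {L : X.Modules} (hL : CohB1.IsAmple L)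
    {x : K} (hx : P.aug x = 0) : IsNilpotent x := by
  obtain ⟨E, F, hE, hF, rfl⟩ := exists_repr hK x
  obtain ⟨r, hr⟩ := exists_rank hE
  obtain ⟨s, hs⟩ := exists_rank hF
  rw [map_sub, hK.aug_cl r E hr, hK.aug_cl s F hs, sub_eq_zero, Nat.cast_inj] at hx
  subst hx
  rw [show φ (KRR.cl X E) - φ (KRR.cl X F) =
    (φ (KRR.cl X E) - (r : K)) - (φ (KRR.cl X F) - (r : K)) by ring]
  exact (Commute.all _ _).isNilpotent_sub (cl_sub_rank_isNilpotent hK hL hr) (cl_sub_rank_isNilpotent hK hL hs)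

end Groth.Agent.KRRLib
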