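import Groth.Agent.KRRLib.Ample
import Mathlib.RingTheory.Adjoin.FG
import Mathlib.RingTheory.IntegralClosure.IsIntegralClosure.Basic
import Mathlib.RingTheory.Noetherian.Nilpotent

/-!
# Sub-λ-rings generated by finitely many bundles on a scheme with an ample module
-/

set_option autoImplicit false
set_option linter.style.haveILetI false
set_option linter.unusedSectionVars false

universe u v

open CategoryTheory AlgebraicGeometry PowerSeries LambdaRing

noncomputable section

namespace Groth.Agent.KRRLib

open Groth.Agent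

section LamHom

variable {K : Type v} [CommRing K] [LambdaRing.LambdaOps K] {D : Type v} [CommRing D] (q : K →+* D)

/-- The series of the images of `λ^i x`. -/
def qSeries (x : K) : PowerSeries D := PowerSeries.mk fun i => q (LambdaOps.lam i x)

theorem qSeries_add (x y : K) : qSeries q (x + y) = qSeries q x * qSeries q y := by
  ext k
  simp only [qSeries, coeff_mk, PowerSeries.coeff_mul, LambdaOps.lam_add, map_sum, map_mul,
    Finset.Nat.sum_antidiagonal_eq_sum_range_succ (fun i j => q (LambdaOps.lam i x) * q (LambdaOps.lam j y))]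

theorem qSeries_zero : qSeries q 0 = 1 := by
  have h := qSeries_add q 0 0
  rw [add_zero] at h
  have hu : IsUnit (qSeries q 0) := by
    rw [PowerSeries.isUnit_iff_constantCoeff]
    simp [qSeries, LambdaOps.lam_zero]
  exact hu.mul_left_cancel (by rw [← h, mul_one])

/-- `x ↦ λ_t(x)` as a homomorphism to the units of power series. -/
def qHom : Multiplicative K →* (PowerSeries D)ˣ :=
  MonoidHom.toHomUnits
    { toFun := fun x => qSeries q x.toAdd
      map_one' := qSeries_zero q
      map_mul' := fun x y => qSeries_add q _ _ }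

theorem qHom_apply (x : K) : (qHom q (Multiplicative.ofAdd x) : PowerSeries D) = qSeries q x := rfl

/-- The elements on which `λ_t` agrees with that of the augmentation. -/
def goodSub (P : LambdaRing.PosStructure K) : AddSubgroup K where
  carrier := {x | qSeries q x = qSeries q ((P.aug x : ℤ) : K)}
  zero_mem' := by simp
  add_mem' := by
    intro x y hx hy
    simp only [Set.mem_setOf_eq, map_add, Int.cast_add, qSeries_add] at *
    rw [hx, hy]
  neg_mem' := by
    intro x hx
    simp only [Set.mem_setOf_eq, map_neg, Int.cast_neg, ← qHom_apply] at *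
    rw [ofAdd_neg, ofAdd_neg, map_inv, map_inv, Units.ext hx]

end LamHom

variable {X : Scheme.{u}} {K : Type v} [CommRing K] [LambdaRing.LambdaOps K] {P : LambdaRing.PosStructure K}
  {φ : SGA6.Kvb X →+ K}

theorem lam_natCast (P : LambdaRing.PosStructure K) :
    ∀ r i : ℕ, LambdaOps.lam i (r : K) = (Nat.choose r i : K)
  | 0, i => by
    have h := qSeries_zero (RingHom.id K)
    have h' := congrArg (PowerSeries.coeff i) h
    cases i <;> simpa [qSeries] using h'
  | r + 1, 0 => by simp [LambdaOps.lam_zero]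
  | r + 1, i + 1 => by
    rw [Nat.cast_succ, LambdaOps.lam_add, Finset.sum_range_succ, Finset.sum_range_succ,
      Finset.sum_eq_zero fun j hj => ?_, Nat.sub_self, LambdaOps.lam_zero, mul_one, zero_add,
      lam_natCast P r (i + 1), lam_natCast P r i, show i + 1 - i = 1 by omega, LambdaOps.lam_one,
      mul_one, Nat.choose_succ_succ, Nat.cast_add]
    rw [lam_one_eq_zero P _ (by have := Finset.mem_range.1 hj; omega), mul_zero]

variable [ConnectedSpace X]

/-- The classes `λ^i` of a bundle are binomial coefficients up to nilpotents. -/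
theorem lam_sub_choose_nilpotent_of_rank (hK : KRR.IsModel X K P φ) {L : X.Modules} (hL : CohB1.IsAmple L)
    {r : ℕ} {E : X.Modules} (hE : FlatMod.IsFinLocFreeOfRank r E) (i : ℕ) :
    IsNilpotent (LambdaOps.lam i (φ (KRR.cl X E)) - (Nat.choose r i : K)) := by
  rw [nilpotent_iff_mem_prime]
  intro J hJ
  rw [← Ideal.Quotient.mk_eq_mk_iff_sub_mem]
  set q := Ideal.Quotient.mk J
  set e := φ (KRR.cl X E)
  set u := φ (KRR.cl X L) with hu
  obtain ⟨n, hn⟩ := eventually_lam_twist_nilpotent hK hL hE
  have htw : ∀ m, n ≤ m → e * u ^ m ∈ goodSub q P := by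
    intro m hm
    change qSeries q _ = qSeries q _
    rw [map_mul, map_pow, hK.aug_cl r E hE, hK.aug_cl 1 L (InvEnd.isFinLocFreeOfRank_one hL.1)]
    simp only [Nat.cast_one, one_pow, mul_one, Int.cast_natCast]
    ext j
    simp only [qSeries, coeff_mk, lam_natCast P]
    rw [Ideal.Quotient.mk_eq_mk_iff_sub_mem]
    exact (nilpotent_iff_mem_prime).1 (hn m hm j) J hJ
  obtain ⟨M, hM⟩ := ample_sub_one_isNilpotent hK hL
  obtain ⟨g, hg⟩ : ∃ g : Polynomial ℤ, (1 : K) = u * Polynomial.aeval u g := by
    obtain ⟨g, hg⟩ : Polynomial.X ∣ ((1 : Polynomial ℤ) - (1 - Polynomial.X) ^ M) := by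
      rw [Polynomial.X_dvd_iff, Polynomial.coeff_zero_eq_eval_zero]
      simp
    refine ⟨g, ?_⟩
    have h := congrArg (Polynomial.aeval u) hg
    simp only [map_sub, map_one, map_pow, Polynomial.aeval_X, map_mul] at h
    rw [← h, show (1 - u) ^ M = (-1 : K) ^ M * (u - 1) ^ M by rw [← mul_pow]; ring, hM, mul_zero, sub_zero]
  have he : e = Polynomial.aeval u (g ^ n) * (e * u ^ n) := by
    rw [map_pow, mul_left_comm, ← mul_pow, mul_comm _ u, ← hg, one_pow, mul_one]
  have hmem : e ∈ goodSub q P := by
    rw [he, Polynomial.aeval_eq_sum_range, Finset.sum_mul]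
    refine AddSubgroup.sum_mem _ fun j _ => ?_
    rw [smul_mul_assoc, show u ^ j * (e * u ^ n) = e * u ^ (n + j) by ring]
    exact AddSubgroup.zsmul_mem _ (htw _ (Nat.le_add_right n j)) _
  have h := congrArg (PowerSeries.coeff i) (hmem : qSeries q e = qSeries q _)
  rw [hK.aug_cl r E hE] at h
  simpa [qSeries, lam_natCast P] using h

/-- Finitely generated sub-λ-rings of bundles are finite over `ℤ` with nilpotent augmentation ideal. -/
theorem augIdeal_subring (hK : KRR.IsModel X K P φ) {L : X.Modules} (hL : CohB1.IsAmple L)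
    (k : ℕ) (E : Fin k → X.Modules) (hE : ∀ i : Fin k, FlatMod.IsFinLocFree (E i)) :
    let R := Subring.closure {y : K | ∃ (i : Fin k) (j : ℕ), y = LambdaOps.lam j (φ (KRR.cl X (E i)))}
    (∃ n : ℕ, ∀ f : Fin n → K, (∀ t : Fin n, f t ∈ R ∧ P.aug (f t) = 0) → ∏ t, f t = 0) ∧
      R.toAddSubgroup.FG := by
  intro R
  set S := {y : K | ∃ (i : Fin k) (j : ℕ), y = LambdaOps.lam j (φ (KRR.cl X (E i)))} with hS
  choose r hr using fun i => exists_rank (hE i)
  have hfin : S.Finite := by
    refine Set.Finite.subset ((Set.finite_iUnion fun i : Fin k =>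
      (Set.finite_Iic (r i)).image fun j => LambdaOps.lam j (φ (KRR.cl X (E i)))).union
      (Set.finite_singleton (0 : K))) ?_
    rintro y ⟨i, j, rfl⟩
    rcases le_or_gt j (r i) with h | h
    · exact Or.inl (Set.mem_iUnion.2 ⟨i, j, h, rfl⟩)
    · exact Or.inr (lam_eq_zero_of_rank hK (hr i) h)
  have hint : ∀ y ∈ S, IsIntegral ℤ y := by
    rintro y ⟨i, j, rfl⟩
    obtain ⟨m, hm⟩ := lam_sub_choose_nilpotent_of_rank hK hL (hr i) j
    refine ⟨(Polynomial.X - Polynomial.C ((Nat.choose (r i) j : ℤ))) ^ m,
      (Polynomial.monic_X_sub_C _).pow m, ?_⟩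
    simpa [Polynomial.eval₂_pow] using hm
  let A := Algebra.adjoin ℤ S
  have hfg : A.toSubmodule.FG := fg_adjoin_of_finite hfin hint
  have hRA : R = A.toSubring := by
    refine le_antisymm (Subring.closure_le.2 Algebra.subset_adjoin) fun x hx => ?_
    rw [Subalgebra.mem_toSubring] at hx
    induction hx using Algebra.adjoin_induction with
    | mem y hy => exact Subring.subset_closure hy
    | algebraMap c => exact intCast_mem _ c
    | add _ _ _ _ h₁ h₂ => exact add_mem h₁ h₂
    | mul _ _ _ _ h₁ h₂ => exact mul_mem h₁ h₂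
  haveI : Module.Finite ℤ A := Module.Finite.iff_fg.2 hfg
  haveI : IsNoetherianRing A := isNoetherianRing_iff.2 (isNoetherian_of_tower ℤ inferInstance)
  refine ⟨?_, ?_⟩
  · let I := RingHom.ker (P.aug.comp A.val.toRingHom)
    have hI : I ≤ nilradical A := fun a ha => by
      obtain ⟨m, hm⟩ := isNilpotent_of_aug_eq_zero hK hL (show P.aug (a : K) = 0 from ha)
      exact ⟨m, Subtype.ext (by simpa using hm)⟩
    obtain ⟨n, hn⟩ := IsNoetherianRing.isNilpotent_nilradical A
    refine ⟨n, fun f hf => ?_⟩
    have hf' : ∀ t, f t ∈ A := fun t => by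
      have := (hf t).1; rwa [hRA] at this
    have h : (∏ t, (⟨f t, hf' t⟩ : A)) ∈ I ^ n := by
      have := Ideal.prod_mem_prod (I := fun _ : Fin n => I) (x := fun t => (⟨f t, hf' t⟩ : A))
        (s := Finset.univ) fun t _ => (hf t).2
      simpa using this
    have h' : (∏ t, (⟨f t, hf' t⟩ : A)) = 0 := by
      have := Ideal.pow_right_mono hI n h
      rw [hn] at this
      exact this
    simpa using congrArg A.val h'
  · rw [hRA]
    exact Submodule.fg_iff_addSubgroup_fg _ |>.1 hfg

end Groth.Agent.KRRLib
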