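import Groth.Agent.AmpleX.Generated
import Groth.Agent.AmpleX.Sect

/-!
# Sections of large twists which form a basis at finitely many points
-/

set_option autoImplicit false

universe u

open CategoryTheory AlgebraicGeometry TopologicalSpace
open Groth.Agent.H23.PicMul

set_option backward.isDefEq.respectTransparency false
set_option backward.isDefEq.respectTransparency.types false

namespace Groth.Agent.KRRLib

open Groth.Agent Groth.Agent.AmpleX

variable {X : Scheme.{u}}

/-- Membership in the locus via the coordinate in a frame. -/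
lemma mem_locus_iff_germ {M : X.Modules} (a : Γ(M, ⊤)) {U : X.Opens} {e : Γ(M, U)} (he : InvX.IsFrame e)
    {g : Γ(X, U)} (hg : AModX.res M (le_top : U ≤ ⊤) a = g • e) {x : X} (hx : x ∈ U) :
    x ∈ locus a ↔ IsUnit (X.presheaf.germ U x hx g) := by
  rw [← X.mem_basicOpen g x hx, ← locus_inf a le_top he hg]
  exact ⟨fun h => ⟨h, hx⟩, fun h => h.1⟩

/-- Some member of a generating family generates at a given point. -/
lemma exists_mem_locus_of_generated {M : X.Modules} (hM : PicF.IsInvertible M) {ι : Type u} (s : ι → Γ(M, ⊤))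
    (hs : ProjUP.GeneratedBy M s) (x : X) : ∃ i, x ∈ locus (s i) := by
  obtain ⟨V, hxV, e, he⟩ := InvX.exists_frame hM x
  choose g hg using fun i => he.exists_coord le_rfl (AModX.res _ (le_top : V ≤ ⊤) (s i))
  simp only [AModX.res_self] at hg
  by_contra! hno
  have hmem : ∀ i, X.presheaf.germ V x hxV (g i) ∈ IsLocalRing.maximalIdeal (X.presheaf.stalk x) :=
    fun i hu => hno i ((mem_locus_iff_germ (s i) he (hg i) hxV).2 hu)
  have hbij := he.germ_bijective hxV
  have hle : ∀ m ∈ Submodule.span (X.presheaf.stalk x)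
      (Set.range fun i => (M.presheaf.germ ⊤ x trivial).hom (s i)),
      ∃ c ∈ IsLocalRing.maximalIdeal (X.presheaf.stalk x),
        m = c • (M.presheaf.germ V x hxV).hom e := by
    intro m hm
    induction hm using Submodule.span_induction with
    | mem m hm =>
      obtain ⟨i, rfl⟩ := hm
      refine ⟨_, hmem i, ?_⟩
      refine ((InvX.germ_res' le_top hxV (s i)).symm.trans (congrArg _ (hg i))).trans ?_
      exact QCoh.germ_smul' M hxV (g i) e
    | zero => exact ⟨0, Ideal.zero_mem _, (zero_smul _ _).symm⟩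
    | add a b _ _ ha hb =>
      obtain ⟨c, hc, rfl⟩ := ha
      obtain ⟨d, hd, rfl⟩ := hb
      exact ⟨c + d, Ideal.add_mem _ hc hd, (add_smul _ _ _).symm⟩
    | smul r a _ ha =>
      obtain ⟨c, hc, rfl⟩ := ha
      exact ⟨r * c, Ideal.mul_mem_left _ _ hc, (mul_smul _ _ _).symm⟩
  obtain ⟨c, hc, hce⟩ := hle ((M.presheaf.germ V x hxV).hom e) (hs x ▸ Submodule.mem_top)
  have h1 : (1 : X.presheaf.stalk x) = c := hbij.1 (by simpa using hce)
  exact (IsLocalRing.maximalIdeal.isMaximal _).ne_top ((Ideal.eq_top_iff_one _).2 (h1 ▸ hc))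

/-- Large twists of an invertible module have a section generating at finitely many given points. -/
theorem eventually_exists_basis {L E : X.Modules} (hL : CohB1.IsAmple L) (hE : PicF.IsInvertible E)
    {Z : Set X} (hZ : Z.Finite) :
    ∃ n₀ : ℕ, ∀ n, n₀ ≤ n → ∃ a : Γ(CohB1.tensorMod E (CohB1.tensorPow L n), ⊤), Z ⊆ locus a := by
  classical
  haveI : CompactSpace X := hL.2.1
  haveI : X.IsSeparated := isSeparated_of_isAmple hL
  let Z₀ : Set X := {z ∈ Z | ∀ w ∈ Z, z ⤳ w → w = z}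
  have hZ₀ : Z₀.Finite := hZ.subset fun z hz => hz.1
  have hmax : ∀ z ∈ Z, ∃ z₀ ∈ Z₀, z ⤳ z₀ := fun z hz => by
    obtain ⟨z₀, hle, hmin⟩ := (hZ.subset (fun w (hw : w ∈ {w ∈ Z | z ⤳ w}) => hw.1)).exists_le_minimal
      (show z ∈ {w ∈ Z | z ⤳ w} from ⟨hz, specializes_rfl⟩)
    refine ⟨z₀, ⟨hmin.1.1, fun w hw hzw => ?_⟩, hmin.1.2⟩
    have hle' : z₀ ≤ w := hmin.2 ⟨hw, hmin.1.2.trans hzw⟩ hzw
    exact (hzw.antisymm (y := w) hle').eq.symm
  let W : X → X.Opens := fun z =>
    ⟨(⋃ w ∈ Z₀ \ {z}, closure {w})ᶜ, ((hZ₀.sdiff).isClosed_biUnion fun w _ => isClosed_closure).isOpen_compl⟩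
  have hW : ∀ z : Z₀, (z : X) ∈ W z := fun z hmem => by
    obtain ⟨w, hw, hzw⟩ := Set.mem_iUnion₂.1 hmem
    exact hw.2 ((hw.1.2 z z.2.1 (specializes_iff_mem_closure.2 hzw)).symm)
  choose m hm s hs hsW _hsa using fun z : Z₀ => exists_genLocus_le hL (hW z)
  haveI := hZ₀.fintype
  let D := ∏ z, m z
  have hLi : ∀ k, PicF.IsInvertible (CohB1.tensorPow L k) := InvX.isInvertible_tensorPow hL.1
  have hft : CohB1.IsFT E :=
    QCoh.isFT_of_isFP (QCoh.isFP_of_isFinLocFree (H23.PullPush.isFinLocFree_of_isInvertible hE))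
  obtain ⟨n₀, hgen⟩ := eventually_generated hL (ProjUPX.isQCoh_of_isInvertible hE) hft
  refine ⟨n₀ + D, fun n hn => ?_⟩
  obtain ⟨G, iso, ι, sec, hsec⟩ := hgen (n - D) (by omega)
  have hG : PicF.IsInvertible G :=
    H23.PicMul.isInvertible_of_iso iso.symm (InvX.isInvertible_tensorMod hE (hLi _))
  have hN := InvX.isInvertible_tensorMod hE (hLi n)
  have hz : ∀ z : Z₀, ∃ a : Γ(CohB1.tensorMod E (CohB1.tensorPow L n), ⊤),
      (z : X) ∈ locus a ∧ locus a ≤ W z := by
    intro z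
    obtain ⟨i, hi⟩ := exists_mem_locus_of_generated hG sec hsec z
    obtain ⟨a', ha'⟩ := exists_locus_cl (cl_eq_iff.2 ⟨iso⟩) (sec i)
    obtain ⟨c, hc⟩ : m z ∣ D := Finset.dvd_prod_of_mem _ (Finset.mem_univ z)
    have hc0 : 0 < c := Nat.pos_of_ne_zero fun h0 => by
      rw [h0, mul_zero] at hc
      exact (Finset.prod_pos fun z _ => hm z).ne' hc
    obtain ⟨b, hb⟩ := exists_pow_section hL.1 (InvX.one (s z)) hc0
    rw [← genLocus_eq_locus] at hb
    obtain ⟨a, ha⟩ := exists_locus_cl (N := CohB1.tensorMod E (CohB1.tensorPow L n))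
      (show PicF.cl (CohB1.tensorMod (CohB1.tensorMod E (CohB1.tensorPow L (n - D)))
          (CohB1.tensorPow L (m z * c))) = _ by
        rw [cl_tensor, cl_tensor, cl_tensor, cl_tensorPow, cl_tensorPow, cl_tensorPow, mul_assoc,
          ← pow_add, ← hc, Nat.sub_add_cancel (by omega)])
      (InvX.tmul a' b)
    rw [locus_tmul (InvX.isInvertible_tensorMod hE (hLi _)) (hLi _), ha', hb] at ha
    exact ⟨a, ha.symm ▸ ⟨hi, hs z⟩, ha.le.trans (inf_le_right.trans (hsW z))⟩
  choose a ha haW using hz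
  refine ⟨∑ z, a z, fun p hp => ?_⟩
  obtain ⟨z₀, hz₀, hpz⟩ := hmax p hp
  refine hpz.mem_open (locus _).2 ?_
  let z : Z₀ := ⟨z₀, hz₀⟩
  obtain ⟨V, hzV, e, he⟩ := InvX.exists_frame hN (z : X)
  choose g hg using fun w => he.exists_coord le_rfl (AModX.res _ (le_top : V ≤ ⊤) (a w))
  simp only [AModX.res_self] at hg
  have hsum : AModX.res _ (le_top : V ≤ ⊤) (∑ w, a w) = (∑ w, g w) • e := by
    rw [map_sum, Finset.sum_smul]
    exact Finset.sum_congr rfl fun w _ => hg w
  show (z : X) ∈ locus _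
  rw [mem_locus_iff_germ _ he hsum hzV, map_sum, ← Finset.add_sum_erase _ _ (Finset.mem_univ z)]
  have hu : IsUnit (X.presheaf.germ V z hzV (g z)) := (mem_locus_iff_germ (a z) he (hg z) hzV).1 (ha z)
  have hnu : (∑ w ∈ Finset.univ.erase z, X.presheaf.germ V z hzV (g w)) ∈
      IsLocalRing.maximalIdeal (X.presheaf.stalk (z : X)) := Ideal.sum_mem _ fun w hw => by
    refine fun hu' => ?_
    have h1 := haW w ((mem_locus_iff_germ (a w) he (hg w) hzV).2 hu')
    exact h1 (Set.mem_iUnion₂.2 ⟨z, ⟨z.2, fun he' =>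
      (Finset.ne_of_mem_erase hw) (Subtype.ext he').symm⟩, subset_closure rfl⟩)
  by_contra hns
  have h2 := Ideal.sub_mem _ (show _ ∈ IsLocalRing.maximalIdeal (X.presheaf.stalk (z : X)) from hns) hnu
  rw [add_sub_cancel_right] at h2
  exact h2 hu

end Groth.Agent.KRRLib
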