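import Groth.Prelude.Def_KRR
import Groth.Agent.KZ.Basic
import Groth.Agent.KFlatLib.Perfect.Tensor
import Groth.Agent.KFlatLib.Scheme.Tensor
import Groth.Agent.KFlatLib.Scheme.PullTensorCx
import Groth.Agent.KFlatLib.Scheme.TensorAssoc
import Groth.Agent.QCoh.LocFree

/-!
# Classes of finite locally free modules and models of `K(X)`

Every element of `K₀` of bundles is a difference of two classes, bundles on a connected scheme have
constant rank, and the additive maps out of a model of `K(X)` are the additive functions of bundles.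
-/

set_option autoImplicit false
set_option linter.style.haveILetI false
set_option backward.isDefEq.respectTransparency false
set_option backward.isDefEq.respectTransparency.types false

universe u v w

open CategoryTheory CategoryTheory.Limits AlgebraicGeometry TopologicalSpace MonoidalCategory ZeroObject

noncomputable section

namespace Groth.Agent.KRRLib

open Groth.Agent

variable {X Y : Scheme.{u}}

/-! ### Finite locally free modules -/

theorem flf_iso {M N : X.Modules} (e : M ≅ N) (h : FlatMod.IsFinLocFree M) : FlatMod.IsFinLocFree N :=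
  H23.PullPush.isFinLocFree_of_iso e h

theorem flf_structure (X : Scheme.{u}) : FlatMod.IsFinLocFree (Coh.structureModule X) :=
  flf_iso (coproductUniqueIso fun _ : Fin 1 => Coh.structureModule X) (KFlatLib.isFinLocFree_freeMod 1)

theorem flf_zero (X : Scheme.{u}) : FlatMod.IsFinLocFree (0 : X.Modules) :=
  KFlatLib.isFinLocFree_of_isZero (isZero_zero _)

theorem flf_of_rank {n : ℕ} {M : X.Modules} (h : FlatMod.IsFinLocFreeOfRank n M) :
    FlatMod.IsFinLocFree M :=
  fun x => (h x).elim fun U hU => ⟨U, n, hU⟩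

theorem flf_biprod {M N : X.Modules} (hM : FlatMod.IsFinLocFree M) (hN : FlatMod.IsFinLocFree N) :
    FlatMod.IsFinLocFree (M ⊞ N) :=
  KFlatLib.isFinLocFree_biprod hM hN

theorem flf_tensor {M N : X.Modules} (hM : FlatMod.IsFinLocFree M) (hN : FlatMod.IsFinLocFree N) :
    FlatMod.IsFinLocFree ((DCoh.tensorBi.obj M).obj N) :=
  KFlatLib.isFinLocFree_tensor hM hN

/-- The stalks of a bundle are projective. -/
theorem projective_stalk {M : X.Modules} (h : FlatMod.IsFinLocFree M) (x : X) :
    Projective ((DerSch.stalkFunctor X x).obj M) := by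
  haveI : Module.Free (X.presheaf.stalk x) ((DerSch.stalkFunctor X x).obj M) :=
    QCoh.free_stalk_of_isFinLocFree h x
  haveI : Module.Projective (X.presheaf.stalk x) ((DerSch.stalkFunctor X x).obj M) := Module.Projective.of_free
  exact (IsProjective.iff_projective (R := X.presheaf.stalk x) _).1 this

/-- `f^* O ≅ O`. -/
def pullStructureIso (f : X ⟶ Y) :
    (Scheme.Modules.pullback f).obj (Coh.structureModule Y) ≅ Coh.structureModule X :=
  (Scheme.Modules.pullback f).mapIso (coproductUniqueIso fun _ : Fin 1 => Coh.structureModule Y).symm ≪≫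
    KFlatLib.pullFreeIso f 1 ≪≫ coproductUniqueIso fun _ : Fin 1 => Coh.structureModule X

/-- Inverse images of short exact sequences of bundles are exact. -/
theorem shortExact_pullback (f : X ⟶ Y) {S : ShortComplex Y.Modules} (hS : S.ShortExact)
    (h₃ : FlatMod.IsFinLocFree S.X₃) : (S.map (Scheme.Modules.pullback f)).ShortExact := by
  rw [KFlatLib.shortExact_iff_stalk]
  intro x
  have hs := (KFlatLib.shortExact_iff_stalk S).1 hS (f.base x)
  haveI : Projective (S.map (DerSch.stalkFunctor Y (f.base x))).X₃ := projective_stalk h₃ _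
  have sp := hs.splittingOfProjective
  exact ShortComplex.shortExact_of_iso (S.mapNatIso (KFlatLib.stalkPullbackIso f x)).symm
    (sp.map (ModuleCat.extendScalars (f.stalkMap x).hom)).shortExact

/-- The tensor product with a fixed module preserves short exact sequences of bundles. -/
theorem shortExact_tensorLeft (M : X.Modules) {S : ShortComplex X.Modules} (hS : S.ShortExact)
    (h₃ : FlatMod.IsFinLocFree S.X₃) : (S.map (DCoh.tensorBi.obj M)).ShortExact :=
  KFlatLib.shortExact_tensor_of_isFlat M hS (KFlatLib.isFlat_of_isFinLocFree h₃)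

/-- On a connected scheme a bundle has constant rank. -/
theorem exists_rank [ConnectedSpace X] {M : X.Modules} (h : FlatMod.IsFinLocFree M) :
    ∃ n, FlatMod.IsFinLocFreeOfRank n M := by
  haveI : PreconnectedSpace X := ConnectedSpace.toPreconnectedSpace
  obtain ⟨x₀⟩ := ConnectedSpace.toNonempty (α := X)
  refine ⟨Module.finrank (X.presheaf.stalk x₀) (M.presheaf.stalk x₀), fun x => ?_⟩
  obtain ⟨U, n, hx, ⟨e⟩⟩ := h x
  obtain ⟨_, ⟨V, hV, rfl⟩, hxV, hle⟩ :=
    X.isBasis_affineOpens.exists_subset_of_mem_open (show x ∈ U from hx) U.2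
  obtain ⟨l⟩ := QCoh.exists_linearEquiv_of_freeIso (QCoh.freeChart hV hle e)
  have hn := QCoh.finrank_stalk_of_freeChart hV (QCoh.isQCoh_of_isFinLocFree h)
    ((QCoh.chartEquiv hV M).trans l) hxV
  rw [(QCoh.isLocallyConstant_rank h).apply_eq_of_preconnectedSpace x₀ x, hn]
  exact ⟨U, hx, ⟨e⟩⟩

/-! ### Classes -/

theorem cl_iso {M N : X.Modules} (e : M ≅ N) (h : FlatMod.IsFinLocFree M) :
    KRR.cl X M = KRR.cl X N :=
  KZ.clSub_iso (KRR.vbP X) e h (flf_iso e h) (isZero_zero _) (flf_zero X)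

theorem cl_isZero {M : X.Modules} (h : IsZero M) : KRR.cl X M = 0 :=
  KZ.clSub_isZero (KRR.vbP X) h

theorem cl_ses {S : ShortComplex X.Modules} (hS : S.ShortExact) (h₁ : FlatMod.IsFinLocFree S.X₁)
    (h₂ : FlatMod.IsFinLocFree S.X₂) (h₃ : FlatMod.IsFinLocFree S.X₃) :
    KRR.cl X S.X₂ = KRR.cl X S.X₁ + KRR.cl X S.X₃ :=
  KZ.clSub_ses (KRR.vbP X) hS h₁ h₂ h₃

theorem cl_biprod {M N : X.Modules} (hM : FlatMod.IsFinLocFree M) (hN : FlatMod.IsFinLocFree N) :
    KRR.cl X (M ⊞ N) = KRR.cl X M + KRR.cl X N :=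
  cl_ses (S := ShortComplex.mk biprod.inl biprod.snd biprod.inl_snd)
    (ShortComplex.Splitting.ofHasBinaryBiproduct M N).shortExact hM (flf_biprod hM hN) hN

/-- Every element of `K₀` of bundles is a difference of two classes. -/
theorem exists_cl_sub (x : SGA6.Kvb X) :
    ∃ E F : X.Modules, FlatMod.IsFinLocFree E ∧ FlatMod.IsFinLocFree F ∧
      x = KRR.cl X E - KRR.cl X F := by
  induction x using QuotientAddGroup.induction_on with | _ z => ?_
  induction z using FreeAbelianGroup.induction_on with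
  | zero =>
    exact ⟨0, 0, flf_zero X, flf_zero X, by rw [sub_self, QuotientAddGroup.mk_zero]⟩
  | of M =>
    exact ⟨M.1, 0, M.2, flf_zero X, by
      rw [cl_isZero (isZero_zero _), sub_zero, KRR.cl, KZ.clSub_of_prop _ M.2]⟩
  | neg M _ =>
    exact ⟨0, M.1, flf_zero X, M.2, by
      rw [cl_isZero (isZero_zero _), zero_sub, KRR.cl, KZ.clSub_of_prop _ M.2, QuotientAddGroup.mk_neg]⟩
  | add a b ha hb =>
    obtain ⟨E, F, hE, hF, he⟩ := ha
    obtain ⟨E', F', hE', hF', he'⟩ := hb
    exact ⟨E ⊞ E', F ⊞ F', flf_biprod hE hE', flf_biprod hF hF', by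
      rw [QuotientAddGroup.mk_add, he, he', cl_biprod hE hE', cl_biprod hF hF']; abel⟩

/-! ### Models -/

section Model

variable {K : Type v} [CommRing K] [LambdaRing.LambdaOps K] {P : LambdaRing.PosStructure K}
  {φ : SGA6.Kvb X →+ K}

/-- Every element of a model is a difference of two classes. -/
theorem exists_repr (hK : KRR.IsModel X K P φ) (x : K) :
    ∃ E F : X.Modules, FlatMod.IsFinLocFree E ∧ FlatMod.IsFinLocFree F ∧
      x = φ (KRR.cl X E) - φ (KRR.cl X F) := by
  obtain ⟨z, rfl⟩ := hK.bijective.2 x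
  obtain ⟨E, F, hE, hF, rfl⟩ := exists_cl_sub z
  exact ⟨E, F, hE, hF, map_sub φ _ _⟩

/-- Additive maps out of a model are determined by their values on classes of bundles. -/
theorem model_hom_ext (hK : KRR.IsModel X K P φ) {G : Type w} [AddCommGroup G] {f g : K →+ G}
    (h : ∀ E : X.Modules, FlatMod.IsFinLocFree E → f (φ (KRR.cl X E)) = g (φ (KRR.cl X E))) :
    f = g := by
  ext x
  obtain ⟨E, F, hE, hF, rfl⟩ := exists_repr hK x
  rw [map_sub, map_sub, h E hE, h F hF]

/-- Additive functions of bundles extend to a model. -/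
theorem exists_model_lift (hK : KRR.IsModel X K P φ) {G : Type w} [AddCommGroup G] (Φ : X.Modules → G)
    (hΦ : ∀ S : ShortComplex X.Modules, S.ShortExact → FlatMod.IsFinLocFree S.X₁ →
      FlatMod.IsFinLocFree S.X₂ → FlatMod.IsFinLocFree S.X₃ → Φ S.X₂ = Φ S.X₁ + Φ S.X₃) :
    ∃ f : K →+ G, ∀ E : X.Modules, FlatMod.IsFinLocFree E → f (φ (KRR.cl X E)) = Φ E := by
  obtain ⟨f, hf⟩ := KZ.exists_liftSub (KRR.vbP X) Φ hΦ
  let e := AddEquiv.ofBijective φ hK.bijective
  refine ⟨f.comp e.symm.toAddMonoidHom, fun E hE => ?_⟩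
  show f (e.symm (φ (KRR.cl X E))) = Φ E
  rw [show φ (KRR.cl X E) = e (KRR.cl X E) from rfl, e.symm_apply_apply]
  exact hf E hE

theorem phi_iso {M N : X.Modules} (e : M ≅ N) (h : FlatMod.IsFinLocFree M) :
    φ (KRR.cl X M) = φ (KRR.cl X N) := by rw [cl_iso e h]

/-- The class of a bundle of positive rank is positive. -/
theorem mem_pos_of_rank (hK : KRR.IsModel X K P φ) {n : ℕ} {E : X.Modules} (hn : 1 ≤ n)
    (hE : FlatMod.IsFinLocFreeOfRank n E) : φ (KRR.cl X E) ∈ P.pos :=
  (hK.mem_pos_iff _).2 ⟨n, E, hn, hE, rfl⟩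

/-- The class of an invertible module is a line element. -/
theorem isLine_of_rank_one (hK : KRR.IsModel X K P φ) {L : X.Modules}
    (hL : FlatMod.IsFinLocFreeOfRank 1 L) : P.IsLine (φ (KRR.cl X L)) :=
  ⟨mem_pos_of_rank hK le_rfl hL, by rw [hK.aug_cl 1 L hL]; rfl⟩

theorem phi_biprod {M N : X.Modules} (hM : FlatMod.IsFinLocFree M) (hN : FlatMod.IsFinLocFree N) :
    φ (KRR.cl X (M ⊞ N)) = φ (KRR.cl X M) + φ (KRR.cl X N) := by
  rw [cl_biprod hM hN, map_add]

theorem phi_ses {S : ShortComplex X.Modules} (hS : S.ShortExact) (h₁ : FlatMod.IsFinLocFree S.X₁)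
    (h₂ : FlatMod.IsFinLocFree S.X₂) (h₃ : FlatMod.IsFinLocFree S.X₃) :
    φ (KRR.cl X S.X₂) = φ (KRR.cl X S.X₁) + φ (KRR.cl X S.X₃) := by
  rw [cl_ses hS h₁ h₂ h₃, map_add]

end Model

/-! ### The inverse image -/

section Pull

variable {KX : Type v} [CommRing KX] [LambdaRing.LambdaOps KX] {PX : LambdaRing.PosStructure KX}
  {φX : SGA6.Kvb X →+ KX}
  {KY : Type w} [CommRing KY] [LambdaRing.LambdaOps KY] {PY : LambdaRing.PosStructure KY}
  {φY : SGA6.Kvb Y →+ KY}

theorem existsUnique_pull (f : X ⟶ Y) (hKY : KRR.IsModel Y KY PY φY) :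
    ∃! g : KY →+ KX, KRR.IsPull f φY φX g := by
  obtain ⟨g, hg⟩ := exists_model_lift hKY
    (fun E => φX (KRR.cl X ((Scheme.Modules.pullback f).obj E))) fun S hS h₁ h₂ h₃ => by
      exact phi_ses (S := S.map (Scheme.Modules.pullback f)) (shortExact_pullback f hS h₃)
        (KFlatLib.isFinLocFree_pullback f h₁) (KFlatLib.isFinLocFree_pullback f h₂)
        (KFlatLib.isFinLocFree_pullback f h₃)
  exact ⟨g, hg, fun g' hg' => model_hom_ext hKY fun E hE => (hg' E hE).trans (hg E hE).symm⟩

theorem pull_one (f : X ⟶ Y) (hKX : KRR.IsModel X KX PX φX) (hKY : KRR.IsModel Y KY PY φY)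
    {g : KY →+ KX} (hg : KRR.IsPull f φY φX g) : g 1 = 1 := by
  rw [← hKY.map_one, hg _ (flf_structure Y), ← hKX.map_one]
  exact phi_iso (pullStructureIso f) (KFlatLib.isFinLocFree_pullback f (flf_structure Y))

theorem pull_mul (f : X ⟶ Y) (hKX : KRR.IsModel X KX PX φX) (hKY : KRR.IsModel Y KY PY φY)
    {g : KY →+ KX} (hg : KRR.IsPull f φY φX g) (a b : KY) : g (a * b) = g a * g b := by
  have key : ∀ E F : Y.Modules, FlatMod.IsFinLocFree E → FlatMod.IsFinLocFree F →
      g (φY (KRR.cl Y E) * φY (KRR.cl Y F)) = g (φY (KRR.cl Y E)) * g (φY (KRR.cl Y F)) := by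
    intro E F hE hF
    rw [hKY.map_mul E F hE hF, hg _ (flf_tensor hE hF), hg E hE, hg F hF,
      hKX.map_mul _ _ (KFlatLib.isFinLocFree_pullback f hE) (KFlatLib.isFinLocFree_pullback f hF)]
    exact phi_iso (((KFlatLib.pullTensorBiIso f).app E).app F)
      (KFlatLib.isFinLocFree_pullback f (flf_tensor hE hF))
  obtain ⟨E, F, hE, hF, rfl⟩ := exists_repr hKY a
  obtain ⟨E', F', hE', hF', rfl⟩ := exists_repr hKY b
  simp only [sub_mul, mul_sub, map_sub, key E E' hE hE', key E F' hE hF', key F E' hF hE', key F F' hF hF']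

end Pull

end Groth.Agent.KRRLib
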