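import Groth.Agent.KRRLib.Push

/-!
# Projection formula, composition and disjointness for the direct image on `K₀`
-/

set_option autoImplicit false
set_option maxHeartbeats 1000000
set_option linter.style.haveILetI false
set_option linter.unusedSectionVars false
set_option backward.isDefEq.respectTransparency false
set_option backward.isDefEq.respectTransparency.types false

universe u v w w'

open CategoryTheory CategoryTheory.Limits AlgebraicGeometry TopologicalSpace ZeroObject Opposite

noncomputable section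

namespace Groth.Agent.KRRLib

open Groth.Agent Groth.Agent.KZ.LFRes

variable {X Y Z : Scheme.{u}}

/-- Tensoring with a bundle on the right is exact. -/
theorem shortExact_tensorRight {E : X.Modules} (hE : FlatMod.IsFinLocFree E) {S : ShortComplex X.Modules}
    (hS : S.ShortExact) : (S.map (DCoh.tensorBi.flip.obj E)).ShortExact :=
  KFlatLib.flatObj_of_isFlat (KFlatLib.isFlat_of_isFinLocFree hE) S hS

theorem preservesFiniteLimits_tensorRight {E : X.Modules} (hE : FlatMod.IsFinLocFree E) :
    PreservesFiniteLimits (DCoh.tensorBi.flip.obj E) :=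
  have h : PreservesFiniteLimits (DCoh.tensorBi.flip.obj E) ∧ PreservesFiniteColimits (DCoh.tensorBi.flip.obj E) :=
    ((DCoh.tensorBi.flip.obj E).exact_tfae.out 0 3).1 fun _ hS => shortExact_tensorRight hE hS
  h.1

theorem preservesFiniteColimits_tensorRight' {E : X.Modules} (hE : FlatMod.IsFinLocFree E) :
    PreservesFiniteColimits (DCoh.tensorBi.flip.obj E) :=
  have h : PreservesFiniteLimits (DCoh.tensorBi.flip.obj E) ∧ PreservesFiniteColimits (DCoh.tensorBi.flip.obj E) :=
    ((DCoh.tensorBi.flip.obj E).exact_tfae.out 0 3).1 fun _ hS => shortExact_tensorRight hE hS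
  h.2

section Formulas

variable {KX : Type v} [CommRing KX] [LambdaRing.LambdaOps KX] {PX : LambdaRing.PosStructure KX}
  {φX : SGA6.Kvb X →+ KX}
  {KY : Type w} [CommRing KY] [LambdaRing.LambdaOps KY] {PY : LambdaRing.PosStructure KY}
  {φY : SGA6.Kvb Y →+ KY}
  {KZ' : Type w'} [CommRing KZ'] [LambdaRing.LambdaOps KZ'] {PZ : LambdaRing.PosStructure KZ'}
  {φZ : SGA6.Kvb Z →+ KZ'}

variable [IsNoetherian X] [IsNoetherian Y]

/-- An exact endofunctor multiplying the classes of bundles by `c` does so on finite resolutions. -/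
theorem toVb_map (hY : KRR.HasEnoughLocFree Y) (G : Y.Modules ⥤ Y.Modules) [G.Additive]
    [PreservesFiniteLimits G] [PreservesFiniteColimits G]
    (hG : ∀ E : Y.Modules, FlatMod.IsFinLocFree E → FlatMod.IsFinLocFree (G.obj E)) (c : KY)
    (hc : ∀ E : Y.Modules, FlatMod.IsFinLocFree E → φY (KRR.cl Y (G.obj E)) = φY (KRR.cl Y E) * c)
    {M : Y.Modules} (hM : P₁ Y M) :
    P₁ Y (G.obj M) ∧ φY (toVb hY (cl1 (G.obj M))) = φY (toVb hY (cl1 M)) * c := by
  have hG' : ∀ E : Y.Modules, FlatMod.IsFinLocFree E → P₁ Y (G.obj E) := fun E hE => p₁_of_flf hY (hG E hE)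
  refine ⟨p₁_map hY G hG' hM, ?_⟩
  have key : (φY.comp (toVb hY)).comp (k1Map hY G hG') = (AddMonoidHom.mulRight c).comp (φY.comp (toVb hY)) :=
    k1_hom_ext hY fun E hE => by
      simp only [AddMonoidHom.coe_comp, Function.comp_apply, AddMonoidHom.coe_mulRight,
        k1Map_cl hY G hG' (p₁_of_flf hY hE), toVb_cl hY hE, toVb_cl hY (hG E hE)]
      exact hc E hE
  have h := DFunLike.congr_fun key (cl1 M)
  simp only [AddMonoidHom.coe_comp, Function.comp_apply, AddMonoidHom.coe_mulRight,
    k1Map_cl hY G hG' hM] at h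
  exact h

/-- The class of `M ⊗ E` for `M` of finite resolution. -/
theorem toVb_tensor (hY : KRR.HasEnoughLocFree Y) (hKY : KRR.IsModel Y KY PY φY) {E : Y.Modules}
    (hE : FlatMod.IsFinLocFree E) {M : Y.Modules} (hM : P₁ Y M) :
    P₁ Y ((DCoh.tensorBi.obj M).obj E) ∧
    φY (toVb hY (cl1 ((DCoh.tensorBi.obj M).obj E))) =
      φY (toVb hY (cl1 M)) * φY (KRR.cl Y E) := by
  haveI := preservesFiniteLimits_tensorRight hE
  haveI := preservesFiniteColimits_tensorRight' hE
  haveI : (DCoh.tensorBi.flip.obj E).Additive := Functor.additive_of_preserves_binary_products _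
  exact toVb_map hY (DCoh.tensorBi.flip.obj E) (fun E' hE' => flf_tensor hE' hE) _
    (fun E' hE' => (hKY.map_mul E' E hE' hE).symm) hM

/-- The projection formula. -/
theorem pushCl_mul_pull (f : X ⟶ Y) (hf : Mor2.IsRegularClosedImmersion f) (hY : KRR.HasEnoughLocFree Y)
    (hKX : KRR.IsModel X KX PX φX) (hKY : KRR.IsModel Y KY PY φY)
    {g : KY →+ KX} (hg : KRR.IsPull f φY φX g) {h : KX →+ KY} (hh : KRR.IsPushCl f φX φY h)
    (x : KX) (y : KY) : h (x * g y) = h x * y := by
  have key : ∀ (F : X.Modules) (E : Y.Modules), FlatMod.IsFinLocFree F → FlatMod.IsFinLocFree E →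
      h (φX (KRR.cl X F) * g (φY (KRR.cl Y E))) = h (φX (KRR.cl X F)) * φY (KRR.cl Y E) := by
    intro F E hF hE
    haveI := hf.1
    have hE' := KFlatLib.isFinLocFree_pullback f hE
    rw [hg E hE, hKX.map_mul F _ hF hE', pushCl_apply f hf hY hh (flf_tensor hF hE'),
      pushCl_apply f hf hY hh hF]
    obtain ⟨hp, he⟩ := toVb_tensor hY hKY hE (p₁_push f hf hY hF)
    haveI := KFlatLib.isIso_projMod_of_isClosedImmersion f F E
    rw [← he, cl1_iso hY (asIso (KFlatLib.projMod f F E)) hp]
  obtain ⟨F, F', hF, hF', rfl⟩ := exists_repr hKX x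
  obtain ⟨E, E', hE, hE', rfl⟩ := exists_repr hKY y
  simp only [map_sub, sub_mul, mul_sub, key F E hF hE, key F E' hF hE', key F' E hF' hE, key F' E' hF' hE']

variable [IsNoetherian Z]

/-- Composition of direct images. -/
theorem pushCl_comp (f : X ⟶ Y) (g : Y ⟶ Z) (hf : Mor2.IsRegularClosedImmersion f)
    (hg : Mor2.IsRegularClosedImmersion g) (hY : KRR.HasEnoughLocFree Y) (hZ : KRR.HasEnoughLocFree Z)
    (hKX : KRR.IsModel X KX PX φX)
    {a : KX →+ KY} (ha : KRR.IsPushCl f φX φY a) {b : KY →+ KZ'} (hb : KRR.IsPushCl g φY φZ b)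
    {c : KX →+ KZ'} (hc : KRR.IsPushCl (f ≫ g) φX φZ c) : c = b.comp a := by
  haveI := hf.1
  haveI := hg.1
  let G := Scheme.Modules.pushforward g
  haveI := preservesFiniteColimits_push g
  have hG : ∀ E : Y.Modules, FlatMod.IsFinLocFree E → P₁ Z (G.obj E) := fun E hE => p₁_push g hg hZ hE
  have hbG : b.comp (φY.comp (toVb hY)) = (φZ.comp (toVb hZ)).comp (k1Map hZ G hG) :=
    k1_hom_ext hY fun E hE => by
      show b (φY (toVb hY (cl1 E))) = φZ (toVb hZ (k1Map hZ G hG (cl1 E)))
      rw [toVb_cl hY hE, k1Map_cl hZ G hG (p₁_of_flf hY hE)]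
      exact pushCl_apply g hg hZ hb hE
  refine model_hom_ext hKX fun F hF => ?_
  have hp := p₁_map hZ G hG (p₁_push f hf hY hF)
  let e : G.obj ((Scheme.Modules.pushforward f).obj F) ≅ (Scheme.Modules.pushforward (f ≫ g)).obj F :=
    (Scheme.Modules.pushforwardComp f g).app F
  obtain ⟨n, L, π, hL⟩ := ((resSetup hZ).iso₁.of_iso e hp).2
  rw [hc F hF n L π hL]
  show _ = b (a (φX (KRR.cl X F)))
  rw [pushCl_apply f hf hY ha hF]
  have := congrArg (fun ψ : K1 Y →+ KZ' => ψ (cl1 ((Scheme.Modules.pushforward f).obj F))) hbG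
  simp only [AddMonoidHom.coe_comp, Function.comp_apply, k1Map_cl hZ G hG (p₁_push f hf hY hF)] at this
  rw [this, cl1_iso hZ e hp, toVb_res hZ hL, map_sum]
  exact Finset.sum_congr rfl fun k _ => (map_zsmul φZ _ _).symm

end Formulas

/-- The inverse image of a resolution of a module vanishing on the image is exact on classes. -/
theorem sum_pullback_eq_zero [IsNoetherian Z] (h : Z ⟶ Y) {G : Y.Modules} {n : ℕ}
    {L : ChainComplex Y.Modules ℕ}
    {π : L ⟶ (ChainComplex.single₀ Y.Modules).obj G} (hL : KRR.IsLFRes G n L π)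
    (hG : ∀ z : Z, IsZero (stk G (h.base z))) :
    ∑ k ∈ Finset.range (n + 1), (-1 : ℤ) ^ k • KRR.cl Z ((Scheme.Modules.pullback h).obj (L.X k)) = 0 := by
  have hP : ∀ k (z : Z), Projective (stk (L.opcycles k) (h.base z)) := by
    intro k
    induction k with
    | zero =>
      intro z
      have : IsZero (stk (L.opcycles 0) (h.base z)) :=
        IsZero.of_iso (hG z) ((DerSch.stalkFunctor Y (h.base z)).mapIso (opcyclesZeroIso hL))
      exact this.projective
    | succ k ih =>
      intro z
      have hs := (KFlatLib.shortExact_iff_stalk _).1 (opSeq_shortExact L k (exactAt_of_isLFRes hL k)) (h.base z)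
      haveI : Projective ((opSeq L k).map (DerSch.stalkFunctor Y (h.base z))).X₃ := ih z
      have sp := hs.splittingOfProjective
      haveI : Projective ((opSeq L k).map (DerSch.stalkFunctor Y (h.base z))).X₂ :=
        projective_stalk (hL.finLocFree k) _
      exact Retract.projective (X := stk (L.opcycles (k + 1)) (h.base z))
        ⟨((opSeq L k).map (DerSch.stalkFunctor Y (h.base z))).f, sp.r, sp.f_r⟩
  have hse : ∀ k, ((opSeq L k).map (Scheme.Modules.pullback h)).ShortExact := by
    intro k
    rw [KFlatLib.shortExact_iff_stalk]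
    intro z
    have hs := (KFlatLib.shortExact_iff_stalk _).1 (opSeq_shortExact L k (exactAt_of_isLFRes hL k)) (h.base z)
    haveI : Projective ((opSeq L k).map (DerSch.stalkFunctor Y (h.base z))).X₃ := hP k z
    have sp := hs.splittingOfProjective
    exact ShortComplex.shortExact_of_iso ((opSeq L k).mapNatIso (KFlatLib.stalkPullbackIso h z)).symm
      (sp.map (ModuleCat.extendScalars (h.stalkMap z).hom)).shortExact
  have h0 : IsZero ((Scheme.Modules.pullback h).obj (L.opcycles 0)) := by
    refine KFlatLib.isZero_of_stalk _ fun z => ?_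
    exact IsZero.of_iso ((ModuleCat.extendScalars (h.stalkMap z).hom).map_isZero
      (IsZero.of_iso (hG z) ((DerSch.stalkFunctor Y (h.base z)).mapIso (opcyclesZeroIso hL))))
      ((KFlatLib.stalkPullbackIso h z).app _)
  have hflf : ∀ k, FlatMod.IsFinLocFree ((Scheme.Modules.pullback h).obj (L.opcycles k)) := by
    intro k
    induction k with
    | zero => exact KFlatLib.isFinLocFree_of_isZero h0
    | succ k ih =>
      exact pdlt_one_iff.1 (PDLT.kernel_of (hse k)
        (pdlt_one_iff.2 (KFlatLib.isFinLocFree_pullback h (hL.finLocFree k)))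
        ((pdlt_one_iff.2 ih).mono (by omega)))
  have key : ∀ j k, k + j = n + 1 → KRR.cl Z ((Scheme.Modules.pullback h).obj (L.opcycles k)) =
      ∑ t ∈ Finset.range j, (-1 : ℤ) ^ t • KRR.cl Z ((Scheme.Modules.pullback h).obj (L.X (k + t))) := by
    intro j
    induction j with
    | zero =>
      intro k hk
      rw [Finset.range_zero, Finset.sum_empty]
      exact cl_isZero ((Scheme.Modules.pullback h).map_isZero (isZero_opcycles hL (by omega)))
    | succ j ih =>
      intro k hk
      have hs := cl_ses (hse k) (hflf (k + 1)) (KFlatLib.isFinLocFree_pullback h (hL.finLocFree k)) (hflf k)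
      rw [sum_alt_succ (fun t => KRR.cl Z ((Scheme.Modules.pullback h).obj (L.X (k + t))))]
      have hsum : ∑ t ∈ Finset.range j, (-1 : ℤ) ^ t • KRR.cl Z ((Scheme.Modules.pullback h).obj (L.X (k + (t + 1)))) =
          KRR.cl Z ((Scheme.Modules.pullback h).obj (L.opcycles (k + 1))) := by
        rw [ih (k + 1) (by omega)]
        exact Finset.sum_congr rfl fun t _ => by rw [show k + (t + 1) = k + 1 + t by omega]
      rw [hsum]
      exact eq_sub_of_add_eq' hs.symm
  have := key (n + 1) 0 (by omega)
  rw [cl_isZero h0] at this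
  simpa only [zero_add] using this.symm

end Groth.Agent.KRRLib
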