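import Groth.Agent.RegLoc6.Pd
import Groth.Agent.KZ.Koszul
import Mathlib.RingTheory.Localization.BaseChange
import Mathlib.RingTheory.Flat.Equalizer

/-!
# Projective dimension of modules over a quotient by a regular sequence
-/

set_option autoImplicit false
set_option linter.style.haveILetI false
set_option backward.isDefEq.respectTransparency false

universe u

open CategoryTheory TensorProduct Groth.Agent.RegLoc6

attribute [local instance] HasDerivedCategory.standard

namespace Groth.Agent.KRRLib

variable {R : Type u} [CommRing R]

theorem pdLE_prod {M N : Type u} [AddCommGroup M] [Module R M] [AddCommGroup N] [Module R N] {n : ℕ}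
    (hM : PdLE R n M) (hN : PdLE R n N) : PdLE R n (M × N) := by
  let e : LinearMap.ker (LinearMap.snd R M N) ≃ₗ[R] M :=
    { toFun := fun z => z.1.1
      invFun := fun m => ⟨(m, 0), rfl⟩
      left_inv := fun z => Subtype.ext (Prod.ext rfl z.2.symm)
      right_inv := fun _ => rfl
      map_add' := fun _ _ => rfl
      map_smul' := fun _ _ => rfl }
  exact (LinearMap.shortExact_shortComplexKer (LinearMap.snd_surjective (R := R) (M := M) (M₂ := N))).hasProjectiveDimensionLT_X₂
    (n + 1) (pdLE_of_equiv e.symm hM) hN

theorem pdLE_pi {M : Type u} [AddCommGroup M] [Module R M] {n : ℕ} (hM : PdLE R n M) :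
    ∀ m : ℕ, PdLE R n (Fin m → M)
  | 0 => by
    haveI : Module.Free R (Fin 0 → M) := Module.Free.of_subsingleton R _
    exact pdLE_of_projective n
  | m + 1 => pdLE_of_equiv (Fin.consLinearEquiv R (fun _ : Fin (m + 1) => M)) (pdLE_prod hM (pdLE_pi hM m))

/-- The quotient by a regular sequence has projective dimension at most its length. -/
theorem pdLE_quot_kRegular : ∀ l : List R, KZ.KRegular R l → PdLE R l.length (R ⧸ Ideal.ofList l)
  | [], _ => pdLE_of_equiv (Submodule.quotEquivOfEqBot _ Ideal.ofList_nil).symm (pdLE_of_projective 0)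
  | f :: l, ⟨hl, hf⟩ => by
    have ih := pdLE_quot_kRegular l hl
    have hle : Ideal.ofList l ≤ Ideal.ofList (f :: l) := by rw [Ideal.ofList_cons]; exact le_sup_right
    let g : (R ⧸ Ideal.ofList l) →ₗ[R] (R ⧸ Ideal.ofList (f :: l)) := Submodule.factor hle
    let a : (R ⧸ Ideal.ofList l) →ₗ[R] (R ⧸ Ideal.ofList l) := f • LinearMap.id
    have ha : Function.Injective a := hf
    have hker : LinearMap.ker g = LinearMap.range a := by
      ext x
      obtain ⟨x, rfl⟩ := Submodule.mkQ_surjective _ x
      rw [LinearMap.mem_ker, LinearMap.mem_range]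
      refine Iff.trans (Submodule.Quotient.mk_eq_zero _) ?_
      rw [Ideal.ofList_cons]
      constructor
      · intro hx
        obtain ⟨y, hy, z, hz, rfl⟩ := Submodule.mem_sup.1 hx
        obtain ⟨c, rfl⟩ := Ideal.mem_span_singleton'.1 hy
        refine ⟨Submodule.Quotient.mk c, ?_⟩
        show (Submodule.Quotient.mk (f • c) : R ⧸ Ideal.ofList l) = Submodule.Quotient.mk (c * f + z)
        rw [Submodule.Quotient.eq, smul_eq_mul]
        simpa [mul_comm c f] using (Ideal.ofList l).neg_mem hz
      · rintro ⟨c, hc⟩
        obtain ⟨c, rfl⟩ := Submodule.mkQ_surjective _ c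
        change (Submodule.Quotient.mk (f • c) : R ⧸ Ideal.ofList l) = Submodule.Quotient.mk x at hc
        rw [Submodule.Quotient.eq] at hc
        have : x = f * c - (f • c - x) := by rw [smul_eq_mul]; ring
        rw [this]
        exact Submodule.sub_mem _ (Submodule.mem_sup_left (Ideal.mul_mem_right _ _ (Ideal.mem_span_singleton_self f)))
          (Submodule.mem_sup_right hc)
    refine pdLE_succ_of_ker g (Submodule.factor_surjective hle) ?_ (pdLE_mono (Nat.le_succ _) ih)
    exact pdLE_of_equiv ((LinearEquiv.ofInjective a ha).trans (LinearEquiv.ofEq _ _ hker.symm)) ih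

theorem pdLE_quot_regular (rs : List R) (h : RingTheory.Sequence.IsWeaklyRegular R rs) :
    PdLE R rs.length (R ⧸ Ideal.ofList rs) := by
  have h' := pdLE_quot_kRegular rs.reverse (KZ.kRegular_of_isWeaklyRegular _ (by rwa [List.reverse_reverse]))
  rw [List.length_reverse] at h'
  exact pdLE_of_equiv (Submodule.quotEquivOfEq _ _ (by simp [Ideal.ofList])) h'

/-- A finite projective module over a quotient ring of finite projective dimension. -/
theorem pdLE_of_projective_over {S : Type u} [CommRing S] [Algebra R S] {n : ℕ} (hS : PdLE R n S)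
    (M : Type u) [AddCommGroup M] [Module R M] [Module S M] [IsScalarTower R S M]
    [Module.Finite S M] [Module.Projective S M] : PdLE R n M := by
  obtain ⟨m, g, hg⟩ := Module.Finite.exists_fin' S M
  obtain ⟨s, hs⟩ := Module.projective_lifting_property g LinearMap.id hg
  exact pdLE_of_retract (s.restrictScalars R) (g.restrictScalars R)
    (LinearMap.ext fun x => congrArg (fun φ : M →ₗ[S] M => φ x) hs) (pdLE_pi hS m)

/-- Flat base change does not increase the projective dimension. -/
theorem pdLE_baseChange (A : Type u) [CommRing A] [Algebra R A] [Module.Flat R A] :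
    ∀ (n : ℕ) (M : Type u) [AddCommGroup M] [Module R M], PdLE R n M → PdLE A n (A ⊗[R] M) := by
  intro n
  induction n with
  | zero =>
    intro M _ _ h
    haveI := pdLE_zero_iff.1 h
    exact pdLE_zero_iff.2 inferInstance
  | succ n ih =>
    intro M _ _ h
    let g : (M →₀ R) →ₗ[R] M := Finsupp.linearCombination R id
    have hg : Function.Surjective g := Finsupp.linearCombination_id_surjective R M
    have hk := ih _ (pdLE_ker g hg h (pdLE_of_projective n))
    let i : A ⊗[R] LinearMap.ker g →ₗ[A] A ⊗[R] (M →₀ R) := (LinearMap.ker g).subtype.baseChange A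
    have hi : Function.Injective i := Module.Flat.lTensor_preserves_injective_linearMap (M := A) (LinearMap.ker g).subtype Subtype.val_injective
    have hs : Function.Surjective (g.baseChange A) := LinearMap.lTensor_surjective A hg
    have hex : Function.Exact i (g.baseChange A) := by
      have h0 := @lTensor_exact R (LinearMap.ker g) (M →₀ R) M _ _ _ _ _ _ _ (LinearMap.ker g).subtype g A _ _ (LinearMap.exact_subtype_ker_map g) hg
      exact h0
    refine pdLE_succ_of_ker (g.baseChange A) hs ?_ (pdLE_of_projective _)
    exact pdLE_of_equiv ((LinearEquiv.ofInjective i hi).trans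
      (LinearEquiv.ofEq _ _ (LinearMap.exact_iff.1 hex).symm)) hk

/-- Localization does not increase the projective dimension. -/
theorem pdLE_isLocalizedModule (S : Submonoid R) (A : Type u) [CommRing A] [Algebra R A]
    [IsLocalization S A] {M : Type u} [AddCommGroup M] [Module R M] {M' : Type u} [AddCommGroup M']
    [Module R M'] [Module A M'] [IsScalarTower R A M'] (l : M →ₗ[R] M') [IsLocalizedModule S l]
    {n : ℕ} (h : PdLE R n M) : PdLE A n M' := by
  haveI : Module.Flat R A := IsLocalization.flat A S
  exact pdLE_of_equiv (IsLocalizedModule.isBaseChange S A l).equiv (pdLE_baseChange A n M h)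

end Groth.Agent.KRRLib
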