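import Groth.Agent.KRRLib.Res
import Groth.Agent.KRRLib.PdReg
import Groth.Agent.KZ.ClosedDev
import Groth.Agent.KFlatLib.Scheme.ProjModule
import Groth.Agent.KFlatLib.Scheme.ClosedPush

/-!
# The direct image along a regular closed immersion on `K₀`

Direct images of bundles along a regular closed immersion have finite projective dimension, so the
push-forward `i_K` exists and is given by the class in `K₀` of modules with finite resolutions.
-/

set_option autoImplicit false
set_option linter.style.haveILetI false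
set_option linter.unusedSectionVars false
set_option backward.isDefEq.respectTransparency false
set_option backward.isDefEq.respectTransparency.types false

universe u v w

open CategoryTheory CategoryTheory.Limits AlgebraicGeometry TopologicalSpace ZeroObject Opposite

noncomputable section

namespace Groth.Agent.KRRLib

open Groth.Agent Groth.Agent.KZ.LFRes

variable {X Y : Scheme.{u}}

/-- Sections of a bundle over an affine open form a finite projective module. -/
theorem finite_projective_sections [IsLocallyNoetherian X] {F : X.Modules}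
    (hF : FlatMod.IsFinLocFree F) {U : X.Opens} (hU : IsAffineOpen U) :
    Module.Finite Γ(X, U) Γ(F, U) ∧ Module.Projective Γ(X, U) Γ(F, U) := by
  have hq := QCoh.isQCoh_of_isFinLocFree hF
  haveI := QCoh.finite_of_isFT hq (QCoh.isFT_of_isFP (QCoh.isFP_of_isFinLocFree hF)) hU
  haveI : IsNoetherianRing Γ(X, U) := IsLocallyNoetherian.component_noetherian ⟨U, hU⟩
  haveI : Module.FinitePresentation Γ(X, U) Γ(F, U) := Module.finitePresentation_of_finite _ _
  haveI : Module.Flat Γ(X, U) Γ(F, U) := (QCoh.flat_sections_iff hq hU).2 fun y _ =>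
    KFlatLib.isFlat_of_isFinLocFree hF y
  exact ⟨inferInstance, Module.Flat.projective_of_finitePresentation⟩

/-- Over an affine open where the ideal is generated by a regular sequence, the sections of the
direct image of a bundle have projective dimension at most the length of the sequence. -/
theorem pdLE_sections_push [IsLocallyNoetherian X] (f : X ⟶ Y) [IsClosedImmersion f] {F : X.Modules}
    (hF : FlatMod.IsFinLocFree F) {U : Y.Opens} (hU : IsAffineOpen U) {rs : List Γ(Y, U)}
    (hrs : RingTheory.Sequence.IsWeaklyRegular Γ(Y, U) rs)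
    (hker : f.ker.ideal ⟨U, hU⟩ = Ideal.ofList rs) :
    RegLoc6.PdLE Γ(Y, U) rs.length Γ((Scheme.Modules.pushforward f).obj F, U) := by
  letI : Algebra Γ(Y, U) Γ(X, f ⁻¹ᵁ U) := (f.app U).hom.toAlgebra
  letI : Module Γ(Y, U) Γ(F, f ⁻¹ᵁ U) := Module.compHom _ (f.app U).hom
  haveI : IsScalarTower Γ(Y, U) Γ(X, f ⁻¹ᵁ U) Γ(F, f ⁻¹ᵁ U) :=
    ⟨fun a b c => mul_smul ((f.app U).hom a) b c⟩
  obtain ⟨h1, h2⟩ := finite_projective_sections hF (hU.preimage f)
  haveI := h1
  haveI := h2
  have hk : RingHom.ker (algebraMap Γ(Y, U) Γ(X, f ⁻¹ᵁ U)) = Ideal.ofList rs := by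
    rw [← hker, Scheme.Hom.ker_apply]; rfl
  have hS : RegLoc6.PdLE Γ(Y, U) rs.length Γ(X, f ⁻¹ᵁ U) :=
    RegLoc6.pdLE_of_equiv ((Submodule.quotEquivOfEq _ _ hk.symm).trans
      (Ideal.quotientKerAlgEquivOfSurjective (f := Algebra.ofId Γ(Y, U) Γ(X, f ⁻¹ᵁ U))
        (f.app_surjective U hU)).toLinearEquiv) (pdLE_quot_regular rs hrs)
  let e : Γ(F, f ⁻¹ᵁ U) ≃ₗ[Γ(Y, U)] Γ((Scheme.Modules.pushforward f).obj F, U) :=
    { toFun := fun s => s
      invFun := fun s => s
      left_inv := fun _ => rfl
      right_inv := fun _ => rfl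
      map_add' := fun _ _ => rfl
      map_smul' := fun a s => (QCoh.pushforward_smul f U a s).symm }
  exact RegLoc6.pdLE_of_equiv e (pdLE_of_projective_over hS _)

/-- Direct images of bundles along regular closed immersions have finite projective dimension. -/
theorem exists_pdlt_push [IsNoetherian X] [IsNoetherian Y] (f : X ⟶ Y)
    (hf : Mor2.IsRegularClosedImmersion f) {F : X.Modules} (hF : FlatMod.IsFinLocFree F) :
    ∃ n, PDLT (n + 1) ((Scheme.Modules.pushforward f).obj F) := by
  obtain ⟨hcl, hreg⟩ := hf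
  haveI := hcl
  choose U hU hz rs hrs hker using hreg
  obtain ⟨s, hs⟩ := isCompact_univ.elim_finite_subcover (fun x => (f ⁻¹ᵁ U x : Set X))
    (fun x => (f ⁻¹ᵁ U x).2) fun x _ => Set.mem_iUnion.2 ⟨x, hz x⟩
  have hG : Coh.IsCoh ((Scheme.Modules.pushforward f).obj F) := QCoh.isCoh_push f (flf_isCoh hF)
  refine ⟨s.sup fun x => (rs x).length, hG, fun y => ?_⟩
  by_cases hy : y ∈ Set.range f.base
  · obtain ⟨x, rfl⟩ := hy
    obtain ⟨i, hi, hxi⟩ := Set.mem_iUnion₂.1 (hs (Set.mem_univ x))
    have hmem : f.base x ∈ U i := hxi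
    have h := pdLE_sections_push f hF (hU i) (hrs i).toIsWeaklyRegular (hker i)
    letI := QCoh.stalkAlg (X := Y) hmem
    letI := QCoh.stalkModule ((Scheme.Modules.pushforward f).obj F) hmem
    haveI := QCoh.isScalarTower_stalk ((Scheme.Modules.pushforward f).obj F) hmem
    haveI := QCoh.isLocalization_stalk' (hU i) hmem
    haveI := QCoh.isLocalizedModule_germLin hG.1 (hU i) hmem
    have h' : RegLoc6.PdLE (Y.presheaf.stalk (f.base x)) (rs i).length
        (((Scheme.Modules.pushforward f).obj F).presheaf.stalk (f.base x)) :=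
      pdLE_isLocalizedModule ((hU i).primeIdealOf ⟨f.base x, hmem⟩).asIdeal.primeCompl
        (Y.presheaf.stalk (f.base x)) (QCoh.germLin _ hmem) h
    exact RegLoc6.pdLE_mono (Finset.le_sup (f := fun x => (rs x).length) hi) h'
  · have h0 : IsZero (stk ((Scheme.Modules.pushforward f).obj F) y) := by
      have h := KFlatLib.isZero_stalk_push f y hy F
      rw [AddCommGrpCat.isZero_iff_subsingleton] at h
      exact @ModuleCat.isZero_of_subsingleton _ _ _ h
    haveI := (hasProjectiveDimensionLT_zero_iff_isZero _).2 h0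
    exact hasProjectiveDimensionLT_of_ge _ 0 _ (Nat.zero_le _)

theorem p₁_push [IsNoetherian X] [IsNoetherian Y] (f : X ⟶ Y) (hf : Mor2.IsRegularClosedImmersion f)
    (hY : KRR.HasEnoughLocFree Y) {F : X.Modules} (hF : FlatMod.IsFinLocFree F) :
    P₁ Y ((Scheme.Modules.pushforward f).obj F) :=
  (exists_pdlt_push f hf hF).elim fun _ h => p₁_of_pdlt hY h

theorem preservesFiniteColimits_push (f : X ⟶ Y) [IsClosedImmersion f] :
    PreservesFiniteColimits (Scheme.Modules.pushforward f) :=
  ⟨fun J _ _ => KFlatLib.preservesColimitsOfShape_push f J⟩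

/-- Direct image along a closed immersion preserves short exact sequences. -/
theorem shortExact_push (f : X ⟶ Y) [IsClosedImmersion f] {S : ShortComplex X.Modules}
    (hS : S.ShortExact) : (S.map (Scheme.Modules.pushforward f)).ShortExact := by
  haveI := preservesFiniteColimits_push f
  exact hS.map_of_exact _

section Models

variable {KX : Type v} [CommRing KX] [LambdaRing.LambdaOps KX] {PX : LambdaRing.PosStructure KX}
  {φX : SGA6.Kvb X →+ KX}
  {KY : Type w} [CommRing KY] [LambdaRing.LambdaOps KY] {PY : LambdaRing.PosStructure KY}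
  {φY : SGA6.Kvb Y →+ KY}

variable [IsNoetherian X] [IsNoetherian Y]

/-- The value of a push-forward on the class of a bundle. -/
theorem pushCl_apply (f : X ⟶ Y) (hf : Mor2.IsRegularClosedImmersion f) (hY : KRR.HasEnoughLocFree Y)
    {g : KX →+ KY} (hg : KRR.IsPushCl f φX φY g) {F : X.Modules} (hF : FlatMod.IsFinLocFree F) :
    g (φX (KRR.cl X F)) = φY (toVb hY (cl1 ((Scheme.Modules.pushforward f).obj F))) := by
  obtain ⟨n, L, π, h⟩ := (p₁_push f hf hY hF).2
  rw [hg F hF n L π h, toVb_res hY h, map_sum]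
  exact Finset.sum_congr rfl fun k _ => (map_zsmul φY _ _).symm

theorem existsUnique_pushCl (f : X ⟶ Y) (hf : Mor2.IsRegularClosedImmersion f)
    (hY : KRR.HasEnoughLocFree Y) (hKX : KRR.IsModel X KX PX φX) :
    ∃! g : KX →+ KY, KRR.IsPushCl f φX φY g := by
  haveI := hf.1
  obtain ⟨g, hg⟩ := exists_model_lift hKX
    (fun F => φY (toVb hY (cl1 ((Scheme.Modules.pushforward f).obj F)))) fun S hS h₁ h₂ h₃ => by
      rw [← map_add, ← map_add]
      exact congrArg (fun z => φY (toVb hY z)) (KZ.clSub_ses (P₁ Y) (shortExact_push f hS)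
        (p₁_push f hf hY h₁) (p₁_push f hf hY h₂) (p₁_push f hf hY h₃))
  refine ⟨g, fun F hF n L π h => ?_, fun g' hg' => model_hom_ext hKX fun F hF => ?_⟩
  · rw [hg F hF, toVb_res hY h, map_sum]
    exact Finset.sum_congr rfl fun k _ => map_zsmul φY _ _
  · exact (pushCl_apply f hf hY hg' hF).trans (hg F hF).symm

end Models

end Groth.Agent.KRRLib
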