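import Groth.Agent.KRRLib.Model
import Groth.Agent.KZ.LFRes

/-!
# Classes of modules with finite locally free resolutions

The Euler characteristic of a resolution, and the map between Grothendieck groups induced by an exact
functor carrying bundles to modules of finite resolution.
-/

set_option autoImplicit false
set_option linter.style.haveILetI false
set_option linter.unusedSectionVars false
set_option backward.isDefEq.respectTransparency false
set_option backward.isDefEq.respectTransparency.types false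

universe u v w

open CategoryTheory CategoryTheory.Limits AlgebraicGeometry TopologicalSpace ZeroObject

noncomputable section

namespace Groth.Agent.KRRLib

open Groth.Agent Groth.Agent.KZ.LFRes

variable {X Y : Scheme.{u}}

/-- `Σ_k (-1)^k` of a sequence, in the reversed-induction form. -/
theorem sum_alt_succ {G : Type w} [AddCommGroup G] (a : ℕ → G) (m : ℕ) :
    ∑ k ∈ Finset.range (m + 1), (-1 : ℤ) ^ k • a k =
      a 0 - ∑ k ∈ Finset.range m, (-1 : ℤ) ^ k • a (k + 1) := by
  rw [Finset.sum_range_succ', pow_zero, one_smul, sub_eq_add_neg, add_comm, ← Finset.sum_neg_distrib]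
  congr 1
  refine Finset.sum_congr rfl fun k _ => ?_
  rw [pow_succ, mul_neg_one, neg_smul]

/-- Resolutions are transported by isomorphisms. -/
theorem isLFRes_of_iso {F F' : X.Modules} (e : F ≅ F') {n : ℕ} {L : ChainComplex X.Modules ℕ}
    {π : L ⟶ (ChainComplex.single₀ X.Modules).obj F} (h : KRR.IsLFRes F n L π) :
    KRR.IsLFRes F' n L (π ≫ (ChainComplex.single₀ X.Modules).map e.hom) :=
  haveI := h.quasiIso
  ⟨h.finLocFree, h.isZero, inferInstance⟩

theorem hasLFRes_of_iso {F F' : X.Modules} (e : F ≅ F') (h : KRR.HasLFRes F) : KRR.HasLFRes F' := by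
  obtain ⟨n, L, π, hL⟩ := h
  exact ⟨n, L, _, isLFRes_of_iso e hL⟩

/-- The truncation sequences of a resolution. -/
def opSeq (L : ChainComplex X.Modules ℕ) (k : ℕ) : ShortComplex X.Modules :=
  ShortComplex.mk (L.fromOpcycles (k + 1) k) (L.pOpcycles k)
    (by rw [← cancel_epi (L.pOpcycles (k + 1))]; simp)

theorem opSeq_shortExact (L : ChainComplex X.Modules ℕ) (k : ℕ) (hex : L.ExactAt (k + 1)) :
    (opSeq L k).ShortExact := by
  haveI : Mono (L.fromOpcycles (k + 1) k) := by
    have h := (L.exactAt_iff' (k + 2) (k + 1) k (by simp) (by simp)).1 hex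
    have := h.mono_fromOpcycles
    have e : L.fromOpcycles (k + 1) k = (L.opcyclesIsoSc' (k + 2) (k + 1) k (by simp) (by simp)).hom ≫
        (L.sc' (k + 2) (k + 1) k).fromOpcycles := by
      rw [← cancel_epi (L.pOpcycles (k + 1))]
      rw [L.p_fromOpcycles, HomologicalComplex.pOpcycles_opcyclesIsoSc'_hom_assoc, ShortComplex.p_fromOpcycles]
      rfl
    rw [e]
    infer_instance
  refine .mk' ?_ (by dsimp [opSeq]; infer_instance) (by dsimp [opSeq]; infer_instance)
  refine ShortComplex.exact_of_g_is_cokernel _ (CokernelCofork.IsColimit.ofπ _ _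
    (fun g hg => L.descOpcycles g (k + 1) (by simp) (by
      rw [← L.p_fromOpcycles, Category.assoc]
      exact (congrArg _ hg).trans comp_zero))
    (fun g hg => L.p_descOpcycles _ _ _ _) (fun g hg b hb => ?_))
  rw [← cancel_epi (L.pOpcycles k), L.p_descOpcycles]
  exact hb

theorem exactAt_of_isLFRes {F : X.Modules} {n : ℕ} {L : ChainComplex X.Modules ℕ}
    {π : L ⟶ (ChainComplex.single₀ X.Modules).obj F} (h : KRR.IsLFRes F n L π) (k : ℕ) :
    L.ExactAt (k + 1) := by
  haveI := h.quasiIso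
  rw [← quasiIsoAt_iff_exactAt' π (k + 1) (HomologicalComplex.exactAt_single_obj _ _ _ _ (by simp))]
  infer_instance

/-- The last opcycles of a resolution are the resolved module. -/
def opcyclesZeroIso {F : X.Modules} {n : ℕ} {L : ChainComplex X.Modules ℕ}
    {π : L ⟶ (ChainComplex.single₀ X.Modules).obj F} (h : KRR.IsLFRes F n L π) : L.opcycles 0 ≅ F :=
  haveI := h.quasiIso
  (L.isoHomologyι₀).symm ≪≫ asIso (HomologicalComplex.homologyMap π 0) ≪≫
    HomologicalComplex.singleObjHomologySelfIso (ComplexShape.down ℕ) 0 F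

theorem isZero_opcycles {F : X.Modules} {n : ℕ} {L : ChainComplex X.Modules ℕ}
    {π : L ⟶ (ChainComplex.single₀ X.Modules).obj F} (h : KRR.IsLFRes F n L π) {k : ℕ} (hk : n < k) :
    IsZero (L.opcycles k) :=
  IsZero.of_epi (L.pOpcycles k) (h.isZero k hk)

/-- The class of modules with finite resolutions by bundles. -/
abbrev K1 (X : Scheme.{u}) : Type (u + 1) := KZero.K0sub (P₁ X)

abbrev cl1 (M : X.Modules) : K1 X := KZero.clSub (P₁ X) M

variable [IsNoetherian X]

theorem p₁_of_flf (hX : KRR.HasEnoughLocFree X) {M : X.Modules} (h : FlatMod.IsFinLocFree M) :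
    P₁ X M :=
  (resSetup hX).le M h

theorem p₁_of_pdlt (hX : KRR.HasEnoughLocFree X) {n : ℕ} {M : X.Modules} (h : PDLT (n + 1) M) :
    P₁ X M :=
  ⟨h.1, hasLFRes hX n M h⟩

theorem p₁_of_hasLFRes {M : X.Modules} (h : KRR.HasLFRes M) : P₁ X M := by
  obtain ⟨n, hn⟩ := exists_pdlt h
  exact ⟨hn.1, h⟩

theorem cl1_iso (hX : KRR.HasEnoughLocFree X) {M N : X.Modules} (e : M ≅ N) (h : P₁ X M) :
    cl1 M = cl1 N :=
  KZ.clSub_iso (P₁ X) e h ((resSetup hX).iso₁.of_iso e h) (isZero_zero _)
    (p₁_of_flf hX (flf_zero X))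

theorem exists_pdlt_opcycles {F : X.Modules} {n : ℕ} {L : ChainComplex X.Modules ℕ}
    {π : L ⟶ (ChainComplex.single₀ X.Modules).obj F} (h : KRR.IsLFRes F n L π) :
    ∀ j k, k + j = n + 1 → PDLT (j + 1) (L.opcycles k) := by
  intro j
  induction j with
  | zero =>
    intro k hk
    exact (pdlt_of_isZero (isZero_opcycles h (by omega))).mono (Nat.zero_le _)
  | succ j ih =>
    intro k hk
    have hk1 := ih (k + 1) (by omega)
    have hS := opSeq_shortExact L k (exactAt_of_isLFRes h k)
    have hX : PDLT (j + 1) (L.X k) := ((pdlt_one_iff).2 (h.finLocFree k)).mono (by omega)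
    have hc : Coh.IsCoh (L.opcycles k) :=
      KZ.isClosedUnderIsomorphisms_isCoh.of_iso
        ((cokernelIsCokernel (opSeq L k).f).coconePointUniqueUpToIso hS.gIsCokernel)
        (QCoh.isCoh_cokernel hk1.1.1 hX.1 (opSeq L k).f)
    exact PDLT.cokernel_of hS hc hk1 (hX.mono (Nat.le_succ _))

/-- A resolution computes the class of the resolved module. -/
theorem cl1_of_isLFRes (hX : KRR.HasEnoughLocFree X) {F : X.Modules} {n : ℕ}
    {L : ChainComplex X.Modules ℕ}
    {π : L ⟶ (ChainComplex.single₀ X.Modules).obj F} (h : KRR.IsLFRes F n L π) :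
    cl1 F = ∑ k ∈ Finset.range (n + 1), (-1 : ℤ) ^ k • cl1 (L.X k) := by
  have key : ∀ j k, k + j = n + 1 →
      cl1 (L.opcycles k) = ∑ t ∈ Finset.range j, (-1 : ℤ) ^ t • cl1 (L.X (k + t)) := by
    intro j
    induction j with
    | zero =>
      intro k hk
      rw [Finset.range_zero, Finset.sum_empty]
      exact KZ.clSub_isZero _ (isZero_opcycles h (by omega))
    | succ j ih =>
      intro k hk
      have hs := KZ.clSub_ses (P₁ X) (opSeq_shortExact L k (exactAt_of_isLFRes h k))
        (p₁_of_pdlt hX (exists_pdlt_opcycles h j (k + 1) (by omega)))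
        (p₁_of_flf hX (h.finLocFree k)) (p₁_of_pdlt hX (exists_pdlt_opcycles h (j + 1) k hk))
      rw [sum_alt_succ (fun t => cl1 (L.X (k + t)))]
      have hsum : ∑ t ∈ Finset.range j, (-1 : ℤ) ^ t • cl1 (L.X (k + (t + 1))) = cl1 (L.opcycles (k + 1)) := by
        rw [ih (k + 1) (by omega)]
        exact Finset.sum_congr rfl fun t _ => by rw [show k + (t + 1) = k + 1 + t by omega]
      rw [hsum]
      exact eq_sub_of_add_eq' hs.symm
  have hp := p₁_of_pdlt hX (exists_pdlt_opcycles h (n + 1) 0 (by omega))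
  rw [← cl1_iso hX (opcyclesZeroIso h) hp, key (n + 1) 0 (by omega)]
  simp only [zero_add]

/-- Bundles and modules with finite resolutions have the same Grothendieck group. -/
theorem exists_resEquiv (hX : KRR.HasEnoughLocFree X) :
    ∃ e : SGA6.Kvb X ≃+ K1 X, ∀ E : X.Modules, FlatMod.IsFinLocFree E → e (KRR.cl X E) = cl1 E := by
  obtain ⟨ι, hι⟩ := KZ.exists_liftSub (KRR.vbP X) (fun M => cl1 (X := X) M) fun S hS a b c =>
    KZ.clSub_ses (P₁ X) hS (p₁_of_flf hX a) (p₁_of_flf hX b) (p₁_of_flf hX c)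
  exact ⟨AddEquiv.ofBijective ι (bijective_resolvable hX ι hι), hι⟩

/-- The inverse of the comparison. -/
def toVb (hX : KRR.HasEnoughLocFree X) : K1 X →+ SGA6.Kvb X :=
  (exists_resEquiv hX).choose.symm.toAddMonoidHom

theorem toVb_cl (hX : KRR.HasEnoughLocFree X) {E : X.Modules} (hE : FlatMod.IsFinLocFree E) :
    toVb hX (cl1 E) = KRR.cl X E := by
  show (exists_resEquiv hX).choose.symm (cl1 E) = KRR.cl X E
  rw [← (exists_resEquiv hX).choose_spec E hE, AddEquiv.symm_apply_apply]

theorem toVb_res (hX : KRR.HasEnoughLocFree X) {F : X.Modules} {n : ℕ}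
    {L : ChainComplex X.Modules ℕ}
    {π : L ⟶ (ChainComplex.single₀ X.Modules).obj F} (h : KRR.IsLFRes F n L π) :
    toVb hX (cl1 F) = ∑ k ∈ Finset.range (n + 1), (-1 : ℤ) ^ k • KRR.cl X (L.X k) := by
  rw [cl1_of_isLFRes hX h, map_sum]
  exact Finset.sum_congr rfl fun k _ => by rw [map_zsmul, toVb_cl hX (h.finLocFree k)]

/-- Additive maps out of `K₀` of modules with finite resolutions are determined on bundles. -/
theorem k1_hom_ext (hX : KRR.HasEnoughLocFree X) {G : Type w} [AddCommGroup G] {f g : K1 X →+ G}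
    (h : ∀ E : X.Modules, FlatMod.IsFinLocFree E → f (cl1 E) = g (cl1 E)) : f = g := by
  obtain ⟨e, he⟩ := exists_resEquiv hX
  have : f.comp e.toAddMonoidHom = g.comp e.toAddMonoidHom := KZ.K0sub_hom_ext _ fun E hE => by
    show f (e (KRR.cl X E)) = g (e (KRR.cl X E))
    rw [he E hE]; exact h E hE
  refine AddMonoidHom.ext fun z => ?_
  obtain ⟨z, rfl⟩ := e.surjective z
  exact congrArg (fun φ : SGA6.Kvb X →+ G => φ z) this

variable [IsNoetherian Y]

/-- An exact functor carrying bundles to modules of finite resolution preserves the latter. -/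
theorem p₁_map (hY : KRR.HasEnoughLocFree Y) (G : X.Modules ⥤ Y.Modules) [G.Additive]
    [PreservesFiniteLimits G] [PreservesFiniteColimits G]
    (hG : ∀ E : X.Modules, FlatMod.IsFinLocFree E → P₁ Y (G.obj E)) {M : X.Modules} (hM : P₁ X M) :
    P₁ Y (G.obj M) := by
  obtain ⟨n, L, π, h⟩ := hM.2
  have key : ∀ j k, k + j = n + 1 → ∃ m, PDLT (m + 1) (G.obj (L.opcycles k)) := by
    intro j
    induction j with
    | zero =>
      intro k hk
      exact ⟨0, (pdlt_of_isZero (G.map_isZero (isZero_opcycles h (by omega)))).mono (Nat.zero_le _)⟩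
    | succ j ih =>
      intro k hk
      obtain ⟨m, hm⟩ := ih (k + 1) (by omega)
      obtain ⟨m', hm'⟩ := exists_pdlt (hG _ (h.finLocFree k)).2
      have hS := (opSeq_shortExact L k (exactAt_of_isLFRes h k)).map_of_exact G
      have hc : Coh.IsCoh (G.obj (L.opcycles k)) :=
        KZ.isClosedUnderIsomorphisms_isCoh.of_iso
          ((cokernelIsCokernel (((opSeq L k).map G)).f).coconePointUniqueUpToIso hS.gIsCokernel)
          (QCoh.isCoh_cokernel hm.1.1 hm'.1 ((opSeq L k).map G).f)
      exact ⟨m + m' + 1, PDLT.cokernel_of hS hc (hm.mono (by omega)) (hm'.mono (by omega))⟩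
  obtain ⟨m, hm⟩ := key (n + 1) 0 (by omega)
  exact p₁_of_pdlt hY (hm.iso (G.mapIso (opcyclesZeroIso h)))

/-- The map induced by an exact functor on `K₀` of modules with finite resolutions. -/
def k1Map (hY : KRR.HasEnoughLocFree Y) (G : X.Modules ⥤ Y.Modules) [G.Additive]
    [PreservesFiniteLimits G] [PreservesFiniteColimits G]
    (hG : ∀ E : X.Modules, FlatMod.IsFinLocFree E → P₁ Y (G.obj E)) : K1 X →+ K1 Y :=
  SGA6.mapSub G (P₁ X) (P₁ Y) fun _ h => p₁_map hY G hG h

theorem k1Map_cl (hY : KRR.HasEnoughLocFree Y) (G : X.Modules ⥤ Y.Modules) [G.Additive]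
    [PreservesFiniteLimits G] [PreservesFiniteColimits G]
    (hG : ∀ E : X.Modules, FlatMod.IsFinLocFree E → P₁ Y (G.obj E)) {M : X.Modules} (hM : P₁ X M) :
    k1Map hY G hG (cl1 M) = cl1 (G.obj M) := by
  show SGA6.mapSub G (P₁ X) (P₁ Y) _ (KZero.clSub (P₁ X) M) = KZero.clSub (P₁ Y) (G.obj M)
  rw [KZ.clSub_of_prop _ hM, KZ.clSub_of_prop _ (p₁_map hY G hG hM)]
  simp [SGA6.mapSub, SGA6.objMap]

end Groth.Agent.KRRLib
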